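/-
Helper14 library (FlatStage): a prime-free flatness criterion.
`A`, `B` Noetherian, `M` a finite `B`-module, `a ∈ A`.  If `M/aM` is flat over `A/a`,
`(a) ⊗ M → M` is injective and `M_a` is flat over `A`, then `M` is flat over `A`.
-/
import Groth.Agent.Lib.Helper8.LocalCriterion3

set_option autoImplicit false
universe u
open TensorProduct

namespace Groth.Agent.Lib.Helper14.FlatStage

section Key
variable {R : Type u} [CommRing R] (J : Ideal R) (M : Type u) [AddCommGroup M] [Module R M]

/-- kernel elements of `𝔞 ⊗ M → M` lie in all `J^m (𝔞 ⊗ M)` when all `M/J^n M` are flat. -/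
theorem ker_le_iInf_pow_smul [IsNoetherianRing R]
    (hflat : ∀ n : ℕ, 0 < n → Module.Flat (R ⧸ J ^ n) ((R ⧸ J ^ n) ⊗[R] M))
    (𝔞 : Ideal R) (x : 𝔞 ⊗[R] M) (hx : (𝔞.subtype.rTensor M) x = 0) (m : ℕ) :
    x ∈ J ^ m • (⊤ : Submodule R (𝔞 ⊗[R] M)) := by
  obtain ⟨k, hk⟩ := Ideal.exists_pow_inf_eq_pow_smul J (𝔞 : Submodule R R)
  have := hflat (m + k + 1) (Nat.succ_pos _)
  have h1 := Helper8.mem_range_rTensor_inclusion_of_flat J M (m + k + 1) 𝔞 x hx
  have h2 : J ^ (m + k + 1) ⊓ 𝔞 ≤ J ^ m * 𝔞 := by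
    have h3 := hk (m + k + 1) (by omega)
    have h4 : ∀ l : ℕ, J ^ l • (⊤ : Submodule R R) = J ^ l := fun l => by
      rw [smul_eq_mul, Ideal.mul_top]
    rw [h4, h4] at h3
    rw [h3]
    have h5 : m + k + 1 - k = m + 1 := by omega
    rw [h5]
    calc J ^ (m + 1) • (J ^ k ⊓ 𝔞) ≤ J ^ (m + 1) • 𝔞 :=
          Submodule.smul_mono le_rfl inf_le_right
      _ ≤ J ^ m * 𝔞 := by
          rw [smul_eq_mul]
          exact Ideal.mul_mono_left (Ideal.pow_le_pow_right (Nat.le_succ m))
  exact Helper8.range_rTensor_inclusion_le M inf_le_right h2 h1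

end Key

section Crit

theorem flat_of_criterion_away {A : Type u} (B : Type u) [CommRing A] [CommRing B] [Algebra A B]
    [IsNoetherianRing A] [IsNoetherianRing B]
    (M : Type u) [AddCommGroup M] [Module A M] [Module B M] [IsScalarTower A B M]
    [Module.Finite B M] (a : A)
    (H1 : Module.Flat (A ⧸ Ideal.span {a}) ((A ⧸ Ideal.span {a}) ⊗[A] M))
    (H2 : Function.Injective ((Ideal.span {a}).subtype.rTensor M))
    (H3 : Module.Flat A (LocalizedModule (Submonoid.powers a) M)) : Module.Flat A M := by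
  rw [Module.Flat.iff_rTensor_injective']
  intro 𝔞
  rw [injective_iff_map_eq_zero]
  intro x hx
  have key := ker_le_iInf_pow_smul (Ideal.span {a}) M
    (fun n _ => Helper8.flat_quotient_pow_of_flat_quotient (Ideal.span {a}) H1 H2 n) 𝔞 x hx
  -- transfer to `M ⊗ 𝔞`
  set y := (TensorProduct.comm A 𝔞 M) x with hy
  have : Module.Finite B (M ⊗[A] 𝔞) := Helper8.finite_tensor M 𝔞
  have hmem : y ∈ ⨅ i : ℕ, ((Ideal.span {a}).map (algebraMap A B)) ^ i •
      (⊤ : Submodule B (M ⊗[A] 𝔞)) := by
    rw [Submodule.mem_iInf]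
    intro n
    have gen : ∀ t : 𝔞 ⊗[A] M, t ∈ (Ideal.span {a}) ^ n • (⊤ : Submodule A (𝔞 ⊗[A] M)) →
        (TensorProduct.comm A 𝔞 M) t ∈ ((Ideal.span {a}).map (algebraMap A B)) ^ n •
          (⊤ : Submodule B (M ⊗[A] 𝔞)) := by
      intro t ht
      refine Submodule.smul_induction_on ht ?_ ?_
      · intro j hj t _
        rw [map_smul, ← algebraMap_smul B j ((TensorProduct.comm A 𝔞 M) t)]
        refine Submodule.smul_mem_smul ?_ Submodule.mem_top
        rw [← Ideal.map_pow]
        exact Ideal.mem_map_of_mem _ hj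
      · intro t1 t2 h1 h2
        rw [map_add]
        exact add_mem h1 h2
    exact gen x (key n)
  obtain ⟨⟨r, hr⟩, hry⟩ := (Ideal.mem_iInf_smul_pow_eq_bot_iff _ y).1 hmem
  -- `r = b * a`
  rw [Ideal.map_span, Set.image_singleton, Ideal.mem_span_singleton'] at hr
  obtain ⟨b, rfl⟩ := hr
  have hpow : ∀ k : ℕ, y = b ^ k • (a ^ k • y) := by
    intro k
    induction k with
    | zero => simp
    | succ k ih =>
      have h1 : (b * algebraMap A B a) • y = y := hry
      calc y = b ^ k • (a ^ k • y) := ih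
        _ = b ^ k • (a ^ k • ((b * algebraMap A B a) • y)) := by rw [h1]
        _ = b ^ (k + 1) • (a ^ (k + 1) • y) := by
          rw [mul_smul, algebraMap_smul, pow_succ, pow_succ, mul_smul, mul_smul,
            smul_comm (a ^ k) b]
  -- `a`-power torsion
  have htors : ∃ k : ℕ, a ^ k • y = 0 := by
    let g := LocalizedModule.mkLinearMap (Submonoid.powers a) M
    have hloc : IsLocalizedModule (Submonoid.powers a) (AlgebraTensorModule.rTensor A 𝔞 g) :=
      inferInstance
    have hsq : (𝔞.subtype.lTensor (LocalizedModule (Submonoid.powers a) M))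
        ((AlgebraTensorModule.rTensor A 𝔞 g) y) = 0 := by
      have h1 : (𝔞.subtype.lTensor (LocalizedModule (Submonoid.powers a) M)) ∘ₗ
          (g.rTensor 𝔞) = (g.rTensor A) ∘ₗ (𝔞.subtype.lTensor M) := by
        rw [LinearMap.lTensor_comp_rTensor, LinearMap.rTensor_comp_lTensor]
      have h2 : (𝔞.subtype.lTensor M) y = 0 := by
        have h3 : (𝔞.subtype.lTensor M) ∘ₗ (TensorProduct.comm A 𝔞 M).toLinearMap =
            (TensorProduct.comm A A M).toLinearMap ∘ₗ (𝔞.subtype.rTensor M) := by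
          apply TensorProduct.ext'
          intro u v
          rfl
        have h4 := congrArg (fun φ => φ x) h3
        simp only [LinearMap.comp_apply, LinearEquiv.coe_coe] at h4
        rw [hy, h4, hx, map_zero]
      have h5 := congrArg (fun φ => φ y) h1
      simp only [LinearMap.comp_apply] at h5
      rw [h2, map_zero] at h5
      exact h5
    have hinj := Module.Flat.lTensor_preserves_injective_linearMap
      (M := LocalizedModule (Submonoid.powers a) M) 𝔞.subtype (Submodule.subtype_injective _)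
    have h0 : (AlgebraTensorModule.rTensor A 𝔞 g) y = 0 := hinj (by rw [hsq, map_zero])
    obtain ⟨⟨_, k, rfl⟩, hk⟩ := (IsLocalizedModule.eq_zero_iff (Submonoid.powers a)
      (AlgebraTensorModule.rTensor A 𝔞 g)).1 h0
    exact ⟨k, hk⟩
  obtain ⟨k, hk⟩ := htors
  have hy0 : y = 0 := by rw [hpow k, hk, smul_zero]
  exact (TensorProduct.comm A 𝔞 M).injective (by rw [← hy, hy0, map_zero])

end Crit

end Groth.Agent.Lib.Helper14.FlatStage
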