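/-
Helper14 library (FlatStage): explicit model of a finitely presented module over a polynomial ring,
functorial in the base ring, with base change isomorphisms.

For a base ring `R₀`, integers `n b e` and a family `L : Fin e → (Fin b → MvPolynomial (Fin n) R₀)`,
and an `R₀`-algebra `D`:
* `Fm n b D = Fin b → MvPolynomial (Fin n) D`,
* `Km L D` the `MvPolynomial (Fin n) D`-span of the images of the `L j`,
* `Mm L D = Fm n b D ⧸ Km L D`.
Main results: `isBaseChange_mapM` (`Mm L D' = D' ⊗[D] Mm L D`), `flat_of_algHom`.
-/
import Mathlib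

set_option autoImplicit false
universe u
open TensorProduct

attribute [local instance] MvPolynomial.algebraMvPolynomial

namespace Groth.Agent.Lib.Helper14.FlatStage

section General

variable {R S : Type u} [CommRing R] [CommRing S] [Algebra R S]
  {M N : Type u} [AddCommGroup M] [AddCommGroup N] [Module R M] [Module R N] [Module S N]
  [IsScalarTower R S N]

/-- the map induced on quotients -/
def quotMap (f : M →ₗ[R] N) (K : Submodule R M) (K' : Submodule S N)
    (h1 : ∀ k ∈ K, f k ∈ K') : M ⧸ K →ₗ[R] N ⧸ K' :=
  K.liftQ ((K'.mkQ.restrictScalars R).comp f) (by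
    intro k hk
    rw [LinearMap.mem_ker, LinearMap.comp_apply, LinearMap.restrictScalars_apply,
      Submodule.mkQ_apply, Submodule.Quotient.mk_eq_zero]
    exact h1 k hk)

@[simp] theorem quotMap_mk (f : M →ₗ[R] N) (K : Submodule R M) (K' : Submodule S N)
    (h1 : ∀ k ∈ K, f k ∈ K') (m : M) :
    quotMap f K K' h1 (Submodule.Quotient.mk m) = Submodule.Quotient.mk (f m) := by
  unfold quotMap
  rw [Submodule.liftQ_apply]
  rfl

/-- base change passes to quotients by corresponding submodules. -/
theorem isBaseChange_quotMap (f : M →ₗ[R] N) (hf : IsBaseChange S f)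
    (K : Submodule R M) (K' : Submodule S N)
    (h1 : ∀ k ∈ K, f k ∈ K') (h2 : K' ≤ Submodule.span S (f '' (K : Set M))) :
    IsBaseChange S (quotMap f K K' h1) := by
  apply IsBaseChange.of_lift_unique
  intro Q _ _ _ _ g
  letI : AddCommGroup Q := Module.addCommMonoidToAddCommGroup S
  have hG : K' ≤ LinearMap.ker (hf.lift (g.comp K.mkQ)) := by
    refine h2.trans (Submodule.span_le.2 ?_)
    rintro _ ⟨k, hk, rfl⟩
    rw [SetLike.mem_coe, LinearMap.mem_ker, hf.lift_eq, LinearMap.comp_apply, Submodule.mkQ_apply,
      (Submodule.Quotient.mk_eq_zero K).2 hk, map_zero]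
  refine ⟨K'.liftQ (hf.lift (g.comp K.mkQ)) hG, ?_, ?_⟩
  · apply Submodule.linearMap_qext
    ext m
    simp only [LinearMap.comp_apply, Submodule.mkQ_apply, LinearMap.restrictScalars_apply,
      quotMap_mk, Submodule.liftQ_apply, hf.lift_eq]
  · intro g'' hg''
    apply Submodule.linearMap_qext
    apply hf.algHom_ext
    intro m
    have := congrArg (fun φ => φ (Submodule.Quotient.mk m)) hg''
    simp only [LinearMap.comp_apply, LinearMap.restrictScalars_apply, quotMap_mk] at this
    simp only [LinearMap.comp_apply, Submodule.mkQ_apply, Submodule.liftQ_apply, hf.lift_eq]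
    exact this

end General

/-- restriction of a base change along a pushout square of rings. -/
theorem isBaseChange_of_isPushout {R S A B : Type*} [CommRing R] [CommRing S] [CommRing A]
    [CommRing B] [Algebra R S] [Algebra R A] [Algebra R B] [Algebra A B] [Algebra S B]
    [IsScalarTower R A B] [IsScalarTower R S B] [Algebra.IsPushout R S A B]
    {M N : Type*} [AddCommGroup M] [AddCommGroup N] [Module R M] [Module A M] [IsScalarTower R A M]
    [Module A N] [Module B N] [IsScalarTower A B N] [Module R N] [Module S N]
    [IsScalarTower R A N] [IsScalarTower S B N] [IsScalarTower R S N]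
    (f : M →ₗ[A] N) (hf : IsBaseChange B f) : IsBaseChange S (f.restrictScalars R) := by
  refine IsBaseChange.of_equiv ((Algebra.IsPushout.cancelBaseChange R S A B M).symm ≪≫ₗ
    (hf.equiv.restrictScalars S)) ?_
  intro m
  simp [hf.equiv_tmul]

/-- the free module `(D[x_1..x_n])^b`. -/
abbrev Fm (n b : ℕ) (D : Type u) [CommRing D] : Type u := Fin b → MvPolynomial (Fin n) D

section maps
variable {n b : ℕ} {D D' : Type u} [CommRing D] [CommRing D'] [Algebra D D']

/-- coefficientwise map, linear over the source polynomial ring. -/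
noncomputable def mapF (n b : ℕ) (D D' : Type u) [CommRing D] [CommRing D'] [Algebra D D'] :
    Fm n b D →ₗ[MvPolynomial (Fin n) D] Fm n b D' :=
  (Algebra.linearMap (MvPolynomial (Fin n) D) (MvPolynomial (Fin n) D')).compLeft (Fin b)

theorem mapF_apply (v : Fm n b D) (i : Fin b) :
    mapF n b D D' v i = MvPolynomial.map (algebraMap D D') (v i) := rfl

theorem isBaseChange_mapF_poly :
    IsBaseChange (MvPolynomial (Fin n) D') (mapF n b D D') :=
  IsBaseChange.finitePow (Fin b) (IsBaseChange.linearMap _ _)

theorem isBaseChange_mapF :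
    IsBaseChange D' ((mapF n b D D').restrictScalars D) :=
  isBaseChange_of_isPushout (R := D) (S := D') (A := MvPolynomial (Fin n) D)
    (B := MvPolynomial (Fin n) D') _ isBaseChange_mapF_poly

end maps

section Model
variable {R₀ : Type u} [CommRing R₀] {n b : ℕ} {κ : Type} (L : κ → Fm n b R₀)
variable (D : Type u) [CommRing D] [Algebra R₀ D]

/-- the generators of the relation module -/
noncomputable def genm (j : κ) : Fm n b D := mapF n b R₀ D (L j)

/-- the relation module -/
noncomputable def Km : Submodule (MvPolynomial (Fin n) D) (Fm n b D) :=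
  Submodule.span _ (Set.range (genm L D))

/-- the model module -/
abbrev Mm : Type u := Fm n b D ⧸ Km L D

variable (D' : Type u) [CommRing D'] [Algebra R₀ D'] [Algebra D D'] [IsScalarTower R₀ D D']

theorem mapF_genm (j : κ) : mapF n b D D' (genm L D j) = genm L D' j := by
  funext i
  simp only [genm, mapF_apply, MvPolynomial.map_map, ← IsScalarTower.algebraMap_eq]

theorem mapF_mem_Km (k : Fm n b D) (hk : k ∈ Km L D) : mapF n b D D' k ∈ Km L D' := by
  unfold Km at hk
  induction hk using Submodule.span_induction with
  | mem x hx =>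
    obtain ⟨j, rfl⟩ := hx
    rw [mapF_genm]
    exact Submodule.subset_span ⟨j, rfl⟩
  | zero => rw [map_zero]; exact zero_mem _
  | add x y _ _ hx hy => rw [map_add]; exact add_mem hx hy
  | smul a x _ hx =>
    rw [map_smul, algebra_compatible_smul (MvPolynomial (Fin n) D')]
    exact Submodule.smul_mem _ _ hx

/-- the transition map of the model modules -/
noncomputable def mapM : Mm L D →ₗ[MvPolynomial (Fin n) D] Mm L D' :=
  quotMap (mapF n b D D') (Km L D) (Km L D') (mapF_mem_Km L D D')

theorem isBaseChange_mapM_poly : IsBaseChange (MvPolynomial (Fin n) D') (mapM L D D') := by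
  refine isBaseChange_quotMap _ isBaseChange_mapF_poly _ _ _ ?_
  refine Submodule.span_mono ?_
  rintro _ ⟨j, rfl⟩
  exact ⟨genm L D j, Submodule.subset_span ⟨j, rfl⟩, mapF_genm L D D' j⟩

theorem isBaseChange_mapM : IsBaseChange D' ((mapM L D D').restrictScalars D) :=
  isBaseChange_of_isPushout (R := D) (S := D') (A := MvPolynomial (Fin n) D)
    (B := MvPolynomial (Fin n) D') _ (isBaseChange_mapM_poly L D D')

end Model

section BC
variable {R₀ : Type u} [CommRing R₀] {n b : ℕ} {κ : Type} (L : κ → Fm n b R₀)

/-- flatness of the model module passes along any algebra homomorphism. -/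
theorem flat_of_algHom {D D' : Type u} [CommRing D] [Algebra R₀ D] [CommRing D'] [Algebra R₀ D']
    (φ : D →ₐ[R₀] D') (h : Module.Flat D (Mm L D)) : Module.Flat D' (Mm L D') := by
  letI := φ.toRingHom.toAlgebra
  haveI : IsScalarTower R₀ D D' := IsScalarTower.of_algebraMap_eq (fun r => (φ.commutes r).symm)
  exact Module.Flat.isBaseChange (R := D) (M := Mm L D) (S := D') (Mm L D')
    (isBaseChange_mapM L D D')

end BC

end Groth.Agent.Lib.Helper14.FlatStage
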