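/-
Helper14 library (FlatStage): the Tor-vanishing condition `TV` for the model module, in elementwise
form `K ∩ I F = I K`, and its relation with flatness.
-/
import Groth.Agent.Lib.Helper14.FlatStage.Model
import Groth.Agent.Lib.Helper8.LocalCriterion

set_option autoImplicit false
universe u
open TensorProduct

attribute [local instance] MvPolynomial.algebraMvPolynomial

namespace Groth.Agent.Lib.Helper14.FlatStage

section Generic
variable {R : Type u} [CommRing R] {F : Type u} [AddCommGroup F] [Module R F]

/-- elementwise form of injectivity of `(R/I) ⊗ N → (R/I) ⊗ F`. -/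
theorem lTensor_quot_injective_iff (N : Submodule R F) (I : Ideal R) :
    Function.Injective (N.subtype.lTensor (R ⧸ I)) ↔
      ∀ x ∈ N, x ∈ I • (⊤ : Submodule R F) → x ∈ I • N := by
  have hmap : (I • (⊤ : Submodule R N)).map N.subtype = I • N := by
    rw [Submodule.map_smul'', Submodule.map_subtype_top]
  constructor
  · intro hinj x hxN hxI
    have h0 : N.subtype.lTensor (R ⧸ I) ((1 : R ⧸ I) ⊗ₜ[R] (⟨x, hxN⟩ : N)) = 0 := by
      rw [LinearMap.lTensor_tmul, Submodule.subtype_apply]
      rw [← quotTensorEquivQuotSMul_symm_mk I x, (Submodule.Quotient.mk_eq_zero _).2 hxI, map_zero]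
    have h1 : ((1 : R ⧸ I) ⊗ₜ[R] (⟨x, hxN⟩ : N)) = 0 := hinj (by rw [h0, map_zero])
    have h2 := congrArg (quotTensorEquivQuotSMul N I) h1
    rw [quotTensorEquivQuotSMul_mk_one_tmul, map_zero, Submodule.Quotient.mk_eq_zero] at h2
    rw [← hmap]
    exact ⟨⟨x, hxN⟩, h2, rfl⟩
  · intro h
    rw [injective_iff_map_eq_zero]
    intro z hz
    obtain ⟨q, rfl⟩ := (quotTensorEquivQuotSMul N I).symm.surjective z
    obtain ⟨y, rfl⟩ := Submodule.Quotient.mk_surjective _ q
    rw [quotTensorEquivQuotSMul_symm_mk, LinearMap.lTensor_tmul, Submodule.subtype_apply] at hz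
    have h2 := congrArg (quotTensorEquivQuotSMul F I) hz
    rw [quotTensorEquivQuotSMul_mk_one_tmul, map_zero, Submodule.Quotient.mk_eq_zero] at h2
    have h3 := h y y.2 h2
    rw [← hmap] at h3
    obtain ⟨y', hy', hyy'⟩ := h3
    have : y' = y := Subtype.ext hyy'
    rw [this] at hy'
    rw [(Submodule.Quotient.mk_eq_zero _).2 hy', map_zero]

end Generic

section TV
variable {R₀ : Type u} [CommRing R₀] {n b : ℕ} {κ : Type} (L : κ → Fm n b R₀)
variable (D : Type u) [CommRing D] [Algebra R₀ D]

/-- the relation module as a `D`-submodule -/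
noncomputable abbrev KmD : Submodule D (Fm n b D) := (Km L D).restrictScalars D

/-- the projection to the model module, `D`-linear -/
noncomputable abbrev piD : Fm n b D →ₗ[D] Mm L D := (Km L D).mkQ.restrictScalars D

theorem piD_surjective : Function.Surjective (piD L D) := by
  intro x
  obtain ⟨y, rfl⟩ := Submodule.mkQ_surjective (Km L D) x
  exact ⟨y, rfl⟩

theorem exact_KmD : Function.Exact (KmD L D).subtype (piD L D) := by
  intro x
  have h := LinearMap.exact_subtype_mkQ (Km L D) x
  constructor
  · intro hx
    obtain ⟨y, hy⟩ := h.1 hx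
    exact ⟨y, hy⟩
  · rintro ⟨y, hy⟩
    exact h.2 ⟨y, hy⟩

/-- Tor-vanishing in elementwise form: `K ∩ I F = I K`. -/
def TV (I : Ideal D) : Prop :=
  ∀ x ∈ Km L D, x ∈ I • (⊤ : Submodule D (Fm n b D)) → x ∈ I • KmD L D

theorem TV_of_flat (h : Module.Flat D (Mm L D)) (I : Ideal D) : TV L D I := by
  have h1 := Helper8.lTensor_quotient_injective I (KmD L D).subtype (piD L D)
    (Submodule.subtype_injective _) (exact_KmD L D) (piD_surjective L D)
    (Module.Flat.rTensor_preserves_injective_linearMap _ (Submodule.subtype_injective _))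
  exact (lTensor_quot_injective_iff (KmD L D) I).1 h1

theorem rTensor_injective_of_TV (I : Ideal D) (h : TV L D I) :
    Function.Injective (I.subtype.rTensor (Mm L D)) := by
  have h1 := (lTensor_quot_injective_iff (KmD L D) I).2 h
  exact Helper8.injective_of_three_by_three (R := D)
    (I.subtype.rTensor (KmD L D)) (I.mkQ.rTensor (KmD L D))
    (I.subtype.rTensor (Fm n b D)) (I.mkQ.rTensor (Fm n b D))
    (I.subtype.rTensor (Mm L D))
    ((KmD L D).subtype.lTensor I) ((piD L D).lTensor I)
    ((KmD L D).subtype.lTensor D) ((piD L D).lTensor D)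
    ((KmD L D).subtype.lTensor (D ⧸ I))
    (by rw [LinearMap.lTensor_comp_rTensor, LinearMap.rTensor_comp_lTensor])
    (by rw [LinearMap.lTensor_comp_rTensor, LinearMap.rTensor_comp_lTensor])
    (by rw [LinearMap.lTensor_comp_rTensor, LinearMap.rTensor_comp_lTensor])
    (LinearMap.lTensor_surjective I (piD_surjective L D))
    (fun x => (lTensor_exact I (exact_KmD L D) (piD_surjective L D)).apply_apply_eq_zero x)
    (lTensor_exact D (exact_KmD L D) (piD_surjective L D))
    (rTensor_exact (KmD L D) (LinearMap.exact_subtype_mkQ I) (Submodule.mkQ_surjective I))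
    (fun x => (rTensor_exact (Fm n b D) (LinearMap.exact_subtype_mkQ I)
      (Submodule.mkQ_surjective I)).apply_apply_eq_zero x)
    (Module.Flat.rTensor_preserves_injective_linearMap _ (Submodule.subtype_injective _))
    h1

end TV

end Groth.Agent.Lib.Helper14.FlatStage
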