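/-
Helper14 library (FlatStage): the quotient functor `D ↦ D/JD`, semilinear transition maps of the
model free module, and the submodules `a F`, `a K`.
-/
import Groth.Agent.Lib.Helper14.FlatStage.TV

set_option autoImplicit false
universe u
open TensorProduct

attribute [local instance] MvPolynomial.algebraMvPolynomial

namespace Groth.Agent.Lib.Helper14.FlatStage

section QJ
variable {R₀ : Type u} [CommRing R₀] (J : Ideal R₀)

/-- `D/JD` -/
abbrev QJ (D : Type u) [CommRing D] [Algebra R₀ D] : Type u := D ⧸ J.map (algebraMap R₀ D)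

variable {D D' D'' : Type u} [CommRing D] [Algebra R₀ D] [CommRing D'] [Algebra R₀ D']
  [CommRing D''] [Algebra R₀ D'']

/-- functoriality of `D ↦ D/JD` -/
noncomputable def QJmap (φ : D →ₐ[R₀] D') : QJ J D →ₐ[R₀] QJ J D' :=
  Ideal.quotientMapₐ _ φ (by
    rw [Ideal.map_le_iff_le_comap]
    intro j hj
    rw [Ideal.mem_comap, Ideal.mem_comap, AlgHom.commutes]
    exact Ideal.mem_map_of_mem _ hj)

theorem QJmap_mk (φ : D →ₐ[R₀] D') (x : D) :
    QJmap J φ (Ideal.Quotient.mk _ x) = Ideal.Quotient.mk _ (φ x) := rfl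

theorem QJmap_comp (φ : D →ₐ[R₀] D') (φ' : D' →ₐ[R₀] D'') :
    (QJmap J φ').comp (QJmap J φ) = QJmap J (φ'.comp φ) := by
  apply AlgHom.ext
  intro x
  obtain ⟨x, rfl⟩ := Ideal.Quotient.mk_surjective x
  rfl

theorem QJmap_comp_apply (φ : D →ₐ[R₀] D') (φ' : D' →ₐ[R₀] D'') (x : QJ J D) :
    QJmap J φ' (QJmap J φ x) = QJmap J (φ'.comp φ) x := by
  rw [← QJmap_comp]
  rfl

theorem QJ_algebraMap_eq_zero (D : Type u) [CommRing D] [Algebra R₀ D] (j : R₀) (hj : j ∈ J) :
    algebraMap R₀ (QJ J D) j = 0 := by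
  rw [IsScalarTower.algebraMap_apply R₀ D (QJ J D)]
  exact Ideal.Quotient.eq_zero_iff_mem.2 (Ideal.mem_map_of_mem _ hj)

end QJ

section mapFh
variable {n b : ℕ} {D D' D'' : Type u} [CommRing D] [CommRing D'] [CommRing D'']

/-- coefficientwise map along a ring homomorphism -/
noncomputable def mapFh (n b : ℕ) (ψ : D →+* D') : Fm n b D →+ Fm n b D' where
  toFun v i := MvPolynomial.map ψ (v i)
  map_zero' := by funext i; simp
  map_add' v w := by funext i; simp

theorem mapFh_apply (ψ : D →+* D') (v : Fm n b D) (i : Fin b) :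
    mapFh n b ψ v i = MvPolynomial.map ψ (v i) := rfl

theorem mapFh_smul (ψ : D →+* D') (p : MvPolynomial (Fin n) D) (v : Fm n b D) :
    mapFh n b ψ (p • v) = MvPolynomial.map ψ p • mapFh n b ψ v := by
  funext i
  simp only [mapFh_apply, Pi.smul_apply, smul_eq_mul, map_mul]

theorem mapFh_smul' (ψ : D →+* D') (c : D) (v : Fm n b D) :
    mapFh n b ψ (c • v) = ψ c • mapFh n b ψ v := by
  funext i
  simp only [mapFh_apply, Pi.smul_apply, MvPolynomial.smul_eq_C_mul, map_mul, MvPolynomial.map_C]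

theorem mapFh_comp (ψ : D →+* D') (ψ' : D' →+* D'') (v : Fm n b D) :
    mapFh n b ψ' (mapFh n b ψ v) = mapFh n b (ψ'.comp ψ) v := by
  funext i
  simp only [mapFh_apply, MvPolynomial.map_map]

theorem mapF_eq_mapFh [Algebra D D'] (v : Fm n b D) :
    mapF n b D D' v = mapFh n b (algebraMap D D') v := rfl

theorem mapFh_eq_zero_of_coeff (ψ : D →+* D') (v : Fm n b D)
    (h : ∀ i m, ψ (MvPolynomial.coeff m (v i)) = 0) : mapFh n b ψ v = 0 := by
  funext i
  ext m
  rw [mapFh_apply, MvPolynomial.coeff_map, h]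
  rfl

theorem coeff_of_mapFh_eq_zero (ψ : D →+* D') (v : Fm n b D) (h : mapFh n b ψ v = 0)
    (i : Fin b) (m : Fin n →₀ ℕ) : ψ (MvPolynomial.coeff m (v i)) = 0 := by
  have := congrArg (fun w => MvPolynomial.coeff m (w i)) h
  simpa only [mapFh_apply, MvPolynomial.coeff_map, Pi.zero_apply, MvPolynomial.coeff_zero]
    using this

end mapFh

section Model
variable {R₀ : Type u} [CommRing R₀] {n b : ℕ} {κ : Type} (L : κ → Fm n b R₀)
variable {D D' : Type u} [CommRing D] [Algebra R₀ D] [CommRing D'] [Algebra R₀ D']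

theorem mapFh_genm (ψ : D →ₐ[R₀] D') (j : κ) :
    mapFh n b (ψ : D →+* D') (genm L D j) = genm L D' j := by
  funext i
  simp only [genm, mapF_apply, mapFh_apply, MvPolynomial.map_map]
  congr 2
  exact ψ.comp_algebraMap

theorem mapFh_mem_Km (ψ : D →ₐ[R₀] D') (k : Fm n b D) (hk : k ∈ Km L D) :
    mapFh n b (ψ : D →+* D') k ∈ Km L D' := by
  unfold Km at hk
  induction hk using Submodule.span_induction with
  | mem x hx =>
    obtain ⟨j, rfl⟩ := hx
    rw [mapFh_genm]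
    exact Submodule.subset_span ⟨j, rfl⟩
  | zero => rw [map_zero]; exact zero_mem _
  | add x y _ _ hx hy => rw [map_add]; exact add_mem hx hy
  | smul a x _ hx =>
    rw [mapFh_smul]
    exact Submodule.smul_mem _ _ hx

variable (D)

/-- `a F` as a submodule over the polynomial ring -/
def aF (a : D) : Submodule (MvPolynomial (Fin n) D) (Fm n b D) where
  carrier := {x | ∃ y : Fm n b D, x = a • y}
  add_mem' := by
    rintro _ _ ⟨y, rfl⟩ ⟨y', rfl⟩
    exact ⟨y + y', (smul_add _ _ _).symm⟩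
  zero_mem' := ⟨0, (smul_zero _).symm⟩
  smul_mem' := by
    rintro p _ ⟨y, rfl⟩
    exact ⟨p • y, smul_comm _ _ _⟩

/-- `a K` as a submodule over the polynomial ring -/
def aK (a : D) : Submodule (MvPolynomial (Fin n) D) (Fm n b D) where
  carrier := {x | ∃ y ∈ Km L D, x = a • y}
  add_mem' := by
    rintro _ _ ⟨y, hy, rfl⟩ ⟨y', hy', rfl⟩
    exact ⟨y + y', add_mem hy hy', (smul_add _ _ _).symm⟩
  zero_mem' := ⟨0, zero_mem _, (smul_zero _).symm⟩
  smul_mem' := by
    rintro p _ ⟨y, hy, rfl⟩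
    exact ⟨p • y, Submodule.smul_mem _ _ hy, smul_comm _ _ _⟩

variable {D}

theorem mem_aF_iff (a : D) (x : Fm n b D) :
    x ∈ aF (n := n) (b := b) D a ↔ x ∈ Ideal.span {a} • (⊤ : Submodule D (Fm n b D)) := by
  rw [Submodule.ideal_span_singleton_smul, Submodule.mem_smul_pointwise_iff_exists]
  constructor
  · rintro ⟨y, rfl⟩
    exact ⟨y, Submodule.mem_top, rfl⟩
  · rintro ⟨y, _, rfl⟩
    exact ⟨y, rfl⟩

theorem mem_aK_iff (a : D) (x : Fm n b D) :
    x ∈ aK L D a ↔ x ∈ Ideal.span {a} • KmD L D := by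
  rw [Submodule.ideal_span_singleton_smul, Submodule.mem_smul_pointwise_iff_exists]
  constructor
  · rintro ⟨y, hy, rfl⟩
    exact ⟨y, hy, rfl⟩
  · rintro ⟨y, hy, rfl⟩
    exact ⟨y, hy, rfl⟩

theorem TV_span_singleton_iff (a : D) :
    TV L D (Ideal.span {a}) ↔ Km L D ⊓ aF D a ≤ aK L D a := by
  constructor
  · intro h x hx
    exact (mem_aK_iff L a x).2 (h x hx.1 ((mem_aF_iff a x).1 hx.2))
  · intro h x hxK hxI
    exact (mem_aK_iff L a x).1 (h ⟨hxK, (mem_aF_iff a x).2 hxI⟩)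

theorem mapFh_mem_aF (ψ : D →+* D') (a : D) (x : Fm n b D) (hx : x ∈ aF D a) :
    mapFh n b ψ x ∈ aF D' (ψ a) := by
  obtain ⟨y, rfl⟩ := hx
  exact ⟨mapFh n b ψ y, mapFh_smul' ψ a y⟩

theorem mapFh_mem_aK (ψ : D →ₐ[R₀] D') (a : D) (x : Fm n b D) (hx : x ∈ aK L D a) :
    mapFh n b (ψ : D →+* D') x ∈ aK L D' (ψ a) := by
  obtain ⟨y, hy, rfl⟩ := hx
  exact ⟨mapFh n b (ψ : D →+* D') y, mapFh_mem_Km L ψ y hy, mapFh_smul' (ψ : D →+* D') a y⟩

end Model

end Groth.Agent.Lib.Helper14.FlatStage
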