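/-
Helper14 library (FlatStage): the directed family of quotients `C/JC` for finitely generated
subalgebras `C ⊆ A`: finite descent of elements/polynomials/relations and the vanishing lemma.
-/
import Groth.Agent.Lib.Helper14.FlatStage.Quot

set_option autoImplicit false
universe u
open TensorProduct

attribute [local instance] MvPolynomial.algebraMvPolynomial

namespace Groth.Agent.Lib.Helper14.FlatStage

section Sub
variable {R₀ : Type u} [CommRing R₀] (J : Ideal R₀) {A : Type u} [CommRing A] [Algebra R₀ A]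

/-- transition maps of the family `C/JC` -/
noncomputable abbrev tQ {C C' : Subalgebra R₀ A} (h : C ≤ C') : QJ J C →ₐ[R₀] QJ J C' :=
  QJmap J (Subalgebra.inclusion h)

/-- the maps to `A/JA` -/
noncomputable abbrev vQ (C : Subalgebra R₀ A) : QJ J C →ₐ[R₀] QJ J A := QJmap J C.val

theorem vQ_tQ {C C' : Subalgebra R₀ A} (h : C ≤ C') (x : QJ J C) :
    vQ J C' (tQ J h x) = vQ J C x := by
  rw [QJmap_comp_apply]
  rfl

theorem tQ_tQ {C C' C'' : Subalgebra R₀ A} (h : C ≤ C') (h' : C' ≤ C'') (x : QJ J C) :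
    tQ J h' (tQ J h x) = tQ J (h.trans h') x := by
  rw [QJmap_comp_apply]
  rfl

theorem vQ_tQ_comp {C C' : Subalgebra R₀ A} (h : C ≤ C') :
    ((vQ J C' : QJ J C' →+* QJ J A)).comp (tQ J h : QJ J C →+* QJ J C') =
      (vQ J C : QJ J C →+* QJ J A) :=
  RingHom.ext (vQ_tQ J h)

theorem tQ_tQ_comp {C C' C'' : Subalgebra R₀ A} (h : C ≤ C') (h' : C' ≤ C'') :
    ((tQ J h' : QJ J C' →+* QJ J C'')).comp (tQ J h : QJ J C →+* QJ J C') =
      (tQ J (h.trans h') : QJ J C →+* QJ J C'') :=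
  RingHom.ext (tQ_tQ J h h')

/-- finite sup principle for finitely generated subalgebras -/
theorem exists_fg_ge_forall {τ : Type*} (T : Finset τ) (C₀ : Subalgebra R₀ A) (hC₀ : C₀.FG)
    (P : τ → Subalgebra R₀ A → Prop) (hmono : ∀ t C C', C ≤ C' → P t C → P t C')
    (h : ∀ t ∈ T, ∃ C : Subalgebra R₀ A, C.FG ∧ C₀ ≤ C ∧ P t C) :
    ∃ C : Subalgebra R₀ A, C.FG ∧ C₀ ≤ C ∧ ∀ t ∈ T, P t C := by
  classical
  induction T using Finset.induction_on with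
  | empty => exact ⟨C₀, hC₀, le_rfl, by simp⟩
  | insert t T ht ih =>
    obtain ⟨C₁, h1, h1', h1''⟩ := ih (fun t' ht' => h t' (Finset.mem_insert_of_mem ht'))
    obtain ⟨C₂, h2, h2', h2''⟩ := h t (Finset.mem_insert_self _ _)
    refine ⟨C₁ ⊔ C₂, h1.sup h2, h1'.trans le_sup_left, ?_⟩
    intro t' ht'
    rcases Finset.mem_insert.1 ht' with rfl | ht'
    · exact hmono _ _ _ le_sup_right h2''
    · exact hmono _ _ _ le_sup_left (h1'' t' ht')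

/-- an element of `J A` lies in `J C` for some finitely generated `C`. -/
theorem exists_fg_mem_map (y : A) (hy : y ∈ J.map (algebraMap R₀ A)) :
    ∃ C : Subalgebra R₀ A, C.FG ∧ ∃ hy : y ∈ C,
      Ideal.Quotient.mk (J.map (algebraMap R₀ C)) (⟨y, hy⟩ : C) = 0 := by
  unfold Ideal.map at hy
  induction hy using Submodule.span_induction with
  | mem y hy =>
    obtain ⟨j, hj, rfl⟩ := hy
    refine ⟨⊥, Subalgebra.fg_bot, Subalgebra.algebraMap_mem _ j, ?_⟩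
    rw [Ideal.Quotient.eq_zero_iff_mem]
    exact Ideal.mem_map_of_mem (algebraMap R₀ (⊥ : Subalgebra R₀ A)) hj
  | zero => exact ⟨⊥, Subalgebra.fg_bot, zero_mem _, map_zero _⟩
  | add y₁ y₂ _ _ h₁ h₂ =>
    obtain ⟨C₁, hC₁, hy₁, h₁⟩ := h₁
    obtain ⟨C₂, hC₂, hy₂, h₂⟩ := h₂
    refine ⟨C₁ ⊔ C₂, hC₁.sup hC₂, add_mem ((le_sup_left : C₁ ≤ C₁ ⊔ C₂) hy₁)
      ((le_sup_right : C₂ ≤ C₁ ⊔ C₂) hy₂), ?_⟩
    have e1 := congrArg (tQ J (le_sup_left : C₁ ≤ C₁ ⊔ C₂)) h₁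
    have e2 := congrArg (tQ J (le_sup_right : C₂ ≤ C₁ ⊔ C₂)) h₂
    rw [map_zero, QJmap_mk] at e1 e2
    have : (⟨y₁ + y₂, add_mem ((le_sup_left : C₁ ≤ C₁ ⊔ C₂) hy₁)
        ((le_sup_right : C₂ ≤ C₁ ⊔ C₂) hy₂)⟩ : (C₁ ⊔ C₂ : Subalgebra R₀ A)) =
        Subalgebra.inclusion (le_sup_left : C₁ ≤ C₁ ⊔ C₂) ⟨y₁, hy₁⟩ +
        Subalgebra.inclusion (le_sup_right : C₂ ≤ C₁ ⊔ C₂) ⟨y₂, hy₂⟩ := rfl
    rw [this, map_add, e1, e2, add_zero]
  | smul a y _ h =>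
    obtain ⟨C₁, hC₁, hy₁, h₁⟩ := h
    have ha : a ∈ (C₁ ⊔ Algebra.adjoin R₀ {a} : Subalgebra R₀ A) :=
      (le_sup_right : Algebra.adjoin R₀ {a} ≤ C₁ ⊔ Algebra.adjoin R₀ {a})
        (Algebra.subset_adjoin (Set.mem_singleton a))
    have hfg : (Algebra.adjoin R₀ {a} : Subalgebra R₀ A).FG := ⟨{a}, by simp⟩
    refine ⟨C₁ ⊔ Algebra.adjoin R₀ {a}, hC₁.sup hfg,
      mul_mem ha ((le_sup_left : C₁ ≤ C₁ ⊔ Algebra.adjoin R₀ {a}) hy₁), ?_⟩
    have e1 := congrArg (tQ J (le_sup_left : C₁ ≤ C₁ ⊔ Algebra.adjoin R₀ {a})) h₁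
    rw [map_zero, QJmap_mk] at e1
    have : (⟨a • y, mul_mem ha ((le_sup_left : C₁ ≤ C₁ ⊔ Algebra.adjoin R₀ {a}) hy₁)⟩ :
        (C₁ ⊔ Algebra.adjoin R₀ {a} : Subalgebra R₀ A)) =
        ⟨a, ha⟩ * Subalgebra.inclusion (le_sup_left : C₁ ≤ C₁ ⊔ Algebra.adjoin R₀ {a})
          ⟨y, hy₁⟩ := rfl
    rw [this, map_mul, e1, mul_zero]

/-- (V₀) -/
theorem exists_tQ_eq_zero (C : Subalgebra R₀ A) (hC : C.FG) (c : QJ J C) (hc : vQ J C c = 0) :
    ∃ C' : Subalgebra R₀ A, C'.FG ∧ C ≤ C' ∧ ∃ h : C ≤ C', tQ J h c = 0 := by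
  obtain ⟨c₀, rfl⟩ := Ideal.Quotient.mk_surjective c
  rw [QJmap_mk, Ideal.Quotient.eq_zero_iff_mem] at hc
  obtain ⟨C₂, hC₂, hy, h₂⟩ := exists_fg_mem_map J (C.val c₀) hc
  refine ⟨C ⊔ C₂, hC.sup hC₂, le_sup_left, le_sup_left, ?_⟩
  have e2 := congrArg (tQ J (le_sup_right : C₂ ≤ C ⊔ C₂)) h₂
  rw [map_zero, QJmap_mk] at e2
  rw [QJmap_mk, ← e2]
  rfl

end Sub

section Sub2
variable {R₀ : Type u} [CommRing R₀] (J : Ideal R₀) {A : Type u} [CommRing A] [Algebra R₀ A]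

theorem isNoetherianRing_QJ_of_fg [IsNoetherianRing R₀] (C : Subalgebra R₀ A) (hC : C.FG) :
    IsNoetherianRing (QJ J C) := by
  haveI : Algebra.FiniteType R₀ C := (Subalgebra.fg_iff_finiteType C).1 hC
  haveI : IsNoetherianRing C := Algebra.FiniteType.isNoetherianRing R₀ C
  infer_instance

/-- (V₁) -/
theorem exists_ker_vQ_le [IsNoetherianRing R₀] (C : Subalgebra R₀ A) (hC : C.FG) :
    ∃ C' : Subalgebra R₀ A, C'.FG ∧ ∃ h : C ≤ C', ∀ c : QJ J C, vQ J C c = 0 → tQ J h c = 0 := by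
  haveI := isNoetherianRing_QJ_of_fg J C hC
  obtain ⟨T, hT⟩ := (isNoetherianRing_iff_ideal_fg (QJ J C)).1 inferInstance
    (RingHom.ker (vQ J C : QJ J C →+* QJ J A))
  obtain ⟨C', hC', hle, hP⟩ := exists_fg_ge_forall T C hC
    (fun c C' => ∃ h : C ≤ C', tQ J h c = 0)
    (by
      rintro c C₁ C₂ h12 ⟨h, hc⟩
      exact ⟨h.trans h12, by rw [← tQ_tQ J h h12, hc, map_zero]⟩)
    (by
      intro c hc
      have : vQ J C c = 0 := by
        have : c ∈ RingHom.ker (vQ J C : QJ J C →+* QJ J A) := by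
          rw [← hT]; exact Ideal.subset_span hc
        exact this
      obtain ⟨C', h1, h2, h3⟩ := exists_tQ_eq_zero J C hC c this
      exact ⟨C', h1, h2, h3⟩)
  refine ⟨C', hC', hle, ?_⟩
  intro c hc
  have hmem : c ∈ RingHom.ker (vQ J C : QJ J C →+* QJ J A) := hc
  rw [← hT] at hmem
  have : Ideal.span (T : Set (QJ J C)) ≤ RingHom.ker (tQ J hle : QJ J C →+* QJ J C') := by
    rw [Ideal.span_le]
    intro t ht
    obtain ⟨_, h⟩ := hP t ht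
    exact h
  exact this hmem

variable {n b : ℕ}

/-- (V) -/
theorem exists_mapFh_eq_zero [IsNoetherianRing R₀] (C : Subalgebra R₀ A) (hC : C.FG) :
    ∃ C' : Subalgebra R₀ A, C'.FG ∧ ∃ h : C ≤ C', ∀ δ : Fm n b (QJ J C),
      mapFh n b (vQ J C : QJ J C →+* QJ J A) δ = 0 →
      mapFh n b (tQ J h : QJ J C →+* QJ J C') δ = 0 := by
  obtain ⟨C', hC', h, hker⟩ := exists_ker_vQ_le J C hC
  refine ⟨C', hC', h, fun δ hδ => ?_⟩
  apply mapFh_eq_zero_of_coeff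
  intro i m
  exact hker _ (coeff_of_mapFh_eq_zero _ δ hδ i m)

/-- (FD) for elements -/
theorem exists_lift_elt (C : Subalgebra R₀ A) (hC : C.FG) (c : QJ J A) :
    ∃ C' : Subalgebra R₀ A, C'.FG ∧ C ≤ C' ∧ ∃ c' : QJ J C', vQ J C' c' = c := by
  obtain ⟨a, rfl⟩ := Ideal.Quotient.mk_surjective c
  have ha : a ∈ (C ⊔ Algebra.adjoin R₀ {a} : Subalgebra R₀ A) :=
    (le_sup_right : Algebra.adjoin R₀ {a} ≤ C ⊔ Algebra.adjoin R₀ {a})
      (Algebra.subset_adjoin (Set.mem_singleton a))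
  have hfg : (Algebra.adjoin R₀ {a} : Subalgebra R₀ A).FG := ⟨{a}, by simp⟩
  exact ⟨C ⊔ Algebra.adjoin R₀ {a}, hC.sup hfg, le_sup_left,
    Ideal.Quotient.mk _ ⟨a, ha⟩, rfl⟩

/-- (FD) for polynomials -/
theorem exists_lift_poly (p : MvPolynomial (Fin n) (QJ J A)) :
    ∀ (C : Subalgebra R₀ A), C.FG → ∃ C' : Subalgebra R₀ A, C'.FG ∧ C ≤ C' ∧
      ∃ p' : MvPolynomial (Fin n) (QJ J C'),
        MvPolynomial.map (vQ J C' : QJ J C' →+* QJ J A) p' = p := by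
  induction p using MvPolynomial.induction_on with
  | C c =>
    intro C hC
    obtain ⟨C', hC', hle, c', rfl⟩ := exists_lift_elt J C hC c
    exact ⟨C', hC', hle, MvPolynomial.C c', MvPolynomial.map_C _ _⟩
  | add p q hp hq =>
    intro C hC
    obtain ⟨C₁, hC₁, hle₁, p', rfl⟩ := hp C hC
    obtain ⟨C₂, hC₂, hle₂, q', rfl⟩ := hq C₁ hC₁
    refine ⟨C₂, hC₂, hle₁.trans hle₂,
      MvPolynomial.map (tQ J hle₂ : QJ J C₁ →+* QJ J C₂) p' + q', ?_⟩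
    rw [map_add, MvPolynomial.map_map, vQ_tQ_comp]
  | mul_X p i hp =>
    intro C hC
    obtain ⟨C₁, hC₁, hle₁, p', rfl⟩ := hp C hC
    exact ⟨C₁, hC₁, hle₁, p' * MvPolynomial.X i, by rw [map_mul, MvPolynomial.map_X]⟩

end Sub2

section Sub3
variable {R₀ : Type u} [CommRing R₀] (J : Ideal R₀) {A : Type u} [CommRing A] [Algebra R₀ A]
variable {n b : ℕ} {κ : Type} (L : κ → Fm n b R₀)

/-- (FD) for relations -/
theorem exists_lift_Km (k : Fm n b (QJ J A)) (hk : k ∈ Km L (QJ J A)) :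
    ∀ (C : Subalgebra R₀ A), C.FG → ∃ C' : Subalgebra R₀ A, C'.FG ∧ C ≤ C' ∧
      ∃ k' ∈ Km L (QJ J C'), mapFh n b (vQ J C' : QJ J C' →+* QJ J A) k' = k := by
  unfold Km at hk
  induction hk using Submodule.span_induction with
  | mem x hx =>
    obtain ⟨j, rfl⟩ := hx
    intro C hC
    exact ⟨C, hC, le_rfl, genm L (QJ J C) j, Submodule.subset_span ⟨j, rfl⟩,
      mapFh_genm L (vQ J C) j⟩
  | zero =>
    intro C hC
    exact ⟨C, hC, le_rfl, 0, zero_mem _, map_zero _⟩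
  | add x y _ _ hx hy =>
    intro C hC
    obtain ⟨C₁, hC₁, hle₁, x', hx', rfl⟩ := hx C hC
    obtain ⟨C₂, hC₂, hle₂, y', hy', rfl⟩ := hy C₁ hC₁
    refine ⟨C₂, hC₂, hle₁.trans hle₂,
      mapFh n b (tQ J hle₂ : QJ J C₁ →+* QJ J C₂) x' + y',
      add_mem (mapFh_mem_Km L (tQ J hle₂) x' hx') hy', ?_⟩
    rw [map_add, mapFh_comp, vQ_tQ_comp]
  | smul p x _ hx =>
    intro C hC
    obtain ⟨C₁, hC₁, hle₁, p', rfl⟩ := exists_lift_poly J p C hC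
    obtain ⟨C₂, hC₂, hle₂, x', hx', rfl⟩ := hx C₁ hC₁
    refine ⟨C₂, hC₂, hle₁.trans hle₂,
      MvPolynomial.map (tQ J hle₂ : QJ J C₁ →+* QJ J C₂) p' • x',
      Submodule.smul_mem _ _ hx', ?_⟩
    rw [mapFh_smul, MvPolynomial.map_map, vQ_tQ_comp]

end Sub3

end Groth.Agent.Lib.Helper14.FlatStage
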