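/-
Helper14 library (FlatStage): "surjectivity of Tor₁ under base change" in elementwise form.
-/
import Groth.Agent.Lib.Helper14.FlatStage.TV

set_option autoImplicit false
universe u
open TensorProduct

namespace Groth.Agent.Lib.Helper14.FlatStage

section QuotBC
variable {R : Type u} [CommRing R] (I : Ideal R)
  {M M' : Type u} [AddCommGroup M] [AddCommGroup M'] [Module R M] [Module R M']

/-- a surjection with kernel inside `I M` induces an isomorphism after `(R/I) ⊗ -`. -/
theorem baseChange_bijective_of_ker_le (g : M →ₗ[R] M') (hg : Function.Surjective g)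
    (hk : LinearMap.ker g ≤ I • (⊤ : Submodule R M)) :
    Function.Bijective (g.baseChange (R ⧸ I)) := by
  refine ⟨?_, LinearMap.baseChange_surjective (R ⧸ I) hg⟩
  rw [injective_iff_map_eq_zero]
  intro z hz
  obtain ⟨q, rfl⟩ := (quotTensorEquivQuotSMul M I).symm.surjective z
  obtain ⟨m, rfl⟩ := Submodule.Quotient.mk_surjective _ q
  rw [quotTensorEquivQuotSMul_symm_mk, LinearMap.baseChange_tmul] at hz
  have h2 := congrArg (quotTensorEquivQuotSMul M' I) hz
  rw [quotTensorEquivQuotSMul_mk_one_tmul, map_zero, Submodule.Quotient.mk_eq_zero] at h2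
  have h3 : (I • (⊤ : Submodule R M')) = (I • (⊤ : Submodule R M)).map g := by
    rw [Submodule.map_smul'', Submodule.map_top, LinearMap.range_eq_top.2 hg]
  rw [h3] at h2
  obtain ⟨m', hm', hmm'⟩ := h2
  have h4 : m - m' ∈ I • (⊤ : Submodule R M) := hk (by
    rw [LinearMap.mem_ker, map_sub, hmm', sub_self])
  have h5 : m ∈ I • (⊤ : Submodule R M) := by
    have := add_mem h4 hm'
    rwa [sub_add_cancel] at this
  rw [(Submodule.Quotient.mk_eq_zero _).2 h5, map_zero]

theorem flat_quot_of_ker_le (g : M →ₗ[R] M') (hg : Function.Surjective g)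
    (hk : LinearMap.ker g ≤ I • (⊤ : Submodule R M))
    (h : Module.Flat (R ⧸ I) ((R ⧸ I) ⊗[R] M)) : Module.Flat (R ⧸ I) ((R ⧸ I) ⊗[R] M') :=
  Module.Flat.of_linearEquiv
    (LinearEquiv.ofBijective (g.baseChange (R ⧸ I))
      (baseChange_bijective_of_ker_le I g hg hk)).symm

end QuotBC

section TorSurj
variable {R : Type u} [CommRing R] (I : Ideal R)
  {F : Type u} [AddCommGroup F] [Module R F] (N : Submodule R F)

theorem smul_top_quot_eq_bot :
    I • (⊤ : Submodule R (F ⧸ (I • ⊤ : Submodule R F))) = ⊥ := by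
  rw [← Submodule.range_mkQ (I • ⊤ : Submodule R F), ← Submodule.map_top,
    ← Submodule.map_smul'', Submodule.mkQ_map_self]

theorem lTensor_barN_injective (H1 : Module.Flat (R ⧸ I) ((R ⧸ I) ⊗[R] (F ⧸ N)))
    (Q : Type u) [AddCommGroup Q] [Module R Q] [Module (R ⧸ I) Q] [IsScalarTower R (R ⧸ I) Q] :
    Function.Injective ((N.map (I • ⊤ : Submodule R F).mkQ).subtype.lTensor Q) := by
  have H0 : Function.Injective
      ((N.map (I • ⊤ : Submodule R F).mkQ).subtype.lTensor (R ⧸ I)) := by
    rw [lTensor_quot_injective_iff]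
    intro x _ hx
    rw [smul_top_quot_eq_bot] at hx
    rw [(Submodule.mem_bot R).1 hx]
    exact zero_mem _
  have H1' : Module.Flat (R ⧸ I) ((R ⧸ I) ⊗[R]
      ((F ⧸ (I • ⊤ : Submodule R F)) ⧸ (N.map (I • ⊤ : Submodule R F).mkQ))) := by
    refine flat_quot_of_ker_le I (Submodule.mapQ N (N.map (I • ⊤ : Submodule R F).mkQ)
      (I • ⊤ : Submodule R F).mkQ (Submodule.le_comap_map _ _)) ?_ ?_ H1
    · intro y
      obtain ⟨y1, rfl⟩ := Submodule.Quotient.mk_surjective _ y
      obtain ⟨y2, rfl⟩ := Submodule.Quotient.mk_surjective _ y1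
      exact ⟨Submodule.Quotient.mk y2, rfl⟩
    · intro m hm
      obtain ⟨x, rfl⟩ := Submodule.Quotient.mk_surjective _ m
      rw [LinearMap.mem_ker, Submodule.mapQ_apply, Submodule.Quotient.mk_eq_zero] at hm
      obtain ⟨n, hn, hnx⟩ := hm
      have h1 : x - n ∈ (I • ⊤ : Submodule R F) := by
        rw [← Submodule.Quotient.mk_eq_zero, Submodule.Quotient.mk_sub, sub_eq_zero]
        exact hnx.symm
      have h3 : (Submodule.Quotient.mk x : F ⧸ N) = N.mkQ (x - n) := by
        rw [Submodule.mkQ_apply, Submodule.Quotient.mk_sub,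
          (Submodule.Quotient.mk_eq_zero N).2 hn, sub_zero]
      rw [h3]
      have h2 : (I • (⊤ : Submodule R (F ⧸ N))) = (I • (⊤ : Submodule R F)).map N.mkQ := by
        rw [Submodule.map_smul'', Submodule.map_top, Submodule.range_mkQ]
      rw [h2]
      exact ⟨_, h1, rfl⟩
  exact Helper8.lTensor_injective_of_module_quotient I _ _
    (LinearMap.exact_subtype_mkQ (N.map (I • ⊤ : Submodule R F).mkQ))
    (Submodule.mkQ_surjective _) H1' H0 Q

end TorSurj

section Main
variable {R R' : Type u} [CommRing R] [CommRing R'] [Algebra R R'] (I : Ideal R)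
  {F F' : Type u} [AddCommGroup F] [AddCommGroup F'] [Module R F] [Module R F'] [Module R' F']
  [IsScalarTower R R' F'] (N : Submodule R F) (f : F →ₗ[R] F') (hf : IsBaseChange R' f)

include hf in
theorem tor_surj (H1 : Module.Flat (R ⧸ I) ((R ⧸ I) ⊗[R] (F ⧸ N)))
    (z : R' ⊗[R] N)
    (hz : hf.equiv (N.subtype.lTensor R' z) ∈
      (I.map (algebraMap R R')) • (⊤ : Submodule R' F')) :
    hf.equiv (N.subtype.lTensor R' z) ∈
      Submodule.span R' (f '' ((N ⊓ I • ⊤ : Submodule R F) : Set F)) ⊔
        (I.map (algebraMap R R')) • Submodule.span R' (f '' (N : Set F)) := by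
  set I' := I.map (algebraMap R R') with hI'
  letI : Algebra (R ⧸ I) (R' ⧸ I') :=
    (Ideal.quotientMap I' (algebraMap R R') Ideal.le_comap_map).toAlgebra
  haveI : IsScalarTower R (R ⧸ I) (R' ⧸ I') := IsScalarTower.of_algebraMap_eq (fun r => rfl)
  have hc := lTensor_barN_injective I N H1 (R' ⧸ I')
  let q := (I • ⊤ : Submodule R F).mkQ
  let mk' : R' →ₗ[R] R' ⧸ I' := I'.mkQ.restrictScalars R
  let θ : R' ⊗[R] F →ₗ[R] (R' ⧸ I') ⊗[R] (F ⧸ (I • ⊤ : Submodule R F)) := TensorProduct.map mk' q
  have hθ : ∀ y ∈ I' • (⊤ : Submodule R' F'), θ (hf.equiv.symm y) = 0 := by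
    intro y hy
    induction hy using Submodule.smul_induction_on' with
    | smul i hi y _ =>
      rw [map_smul]
      generalize hf.equiv.symm y = t
      induction t with
      | zero => simp
      | add a b ha hb => rw [smul_add, map_add, ha, hb, add_zero]
      | tmul r' x =>
        rw [TensorProduct.smul_tmul', TensorProduct.map_tmul]
        have : mk' (i • r') = 0 := by
          show Ideal.Quotient.mk I' (i * r') = 0
          exact Ideal.Quotient.eq_zero_iff_mem.2 (I'.mul_mem_right _ hi)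
        rw [this, TensorProduct.zero_tmul]
    | add a _ b _ ha hb => rw [map_add, map_add, ha, hb, add_zero]
  let a : R' ⊗[R] N →ₗ[R] (R' ⧸ I') ⊗[R] N := mk'.rTensor N
  let qN : N →ₗ[R] (N.map q) := q.submoduleMap N
  let bm : (R' ⧸ I') ⊗[R] N →ₗ[R] (R' ⧸ I') ⊗[R] (N.map q) := qN.lTensor (R' ⧸ I')
  let c := (N.map q).subtype.lTensor (R' ⧸ I')
  have hcomp : θ ∘ₗ (N.subtype.lTensor R') = c ∘ₗ bm ∘ₗ a := by
    apply TensorProduct.ext'
    intro r n
    rfl
  have h0 : θ (N.subtype.lTensor R' z) = 0 := by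
    have := hθ _ hz
    rwa [LinearEquiv.symm_apply_apply] at this
  have h1 : bm (a z) = 0 := by
    apply hc
    rw [map_zero]
    have := congrArg (fun φ => φ z) hcomp
    simp only [LinearMap.comp_apply] at this
    rw [← this, h0]
  let X : Submodule R F := N ⊓ I • ⊤
  let incl : X →ₗ[R] N := Submodule.inclusion inf_le_left
  have hex1 : Function.Exact incl qN := by
    intro n
    constructor
    · intro hn
      have : q (n : F) = 0 := congrArg Subtype.val hn
      rw [Submodule.mkQ_apply, Submodule.Quotient.mk_eq_zero] at this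
      exact ⟨⟨n, n.2, this⟩, rfl⟩
    · rintro ⟨x, rfl⟩
      apply Subtype.ext
      show q (x : F) = 0
      rw [Submodule.mkQ_apply, Submodule.Quotient.mk_eq_zero]
      exact x.2.2
  have hex1' := lTensor_exact (R' ⧸ I') hex1 (q.submoduleMap_surjective N)
  obtain ⟨w, hw⟩ := (hex1' (a z)).1 h1
  obtain ⟨w', hw'⟩ := LinearMap.rTensor_surjective X (g := mk') (Submodule.mkQ_surjective I') w
  have h2 : a (z - incl.lTensor R' w') = 0 := by
    rw [map_sub, sub_eq_zero, ← hw, ← hw']
    show (incl.lTensor (R' ⧸ I') ∘ₗ mk'.rTensor X) w' = (mk'.rTensor N ∘ₗ incl.lTensor R') w'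
    rw [LinearMap.lTensor_comp_rTensor, LinearMap.rTensor_comp_lTensor]
  have hex2 := rTensor_exact N (f := I'.subtype.restrictScalars R) (g := mk')
    (by exact LinearMap.exact_subtype_mkQ I') (Submodule.mkQ_surjective I')
  obtain ⟨v, hv⟩ := (hex2 _).1 h2
  have hzdecomp : z = incl.lTensor R' w' + (I'.subtype.restrictScalars R).rTensor N v := by
    rw [hv]
    abel
  have key1 : ∀ t : R' ⊗[R] X, hf.equiv (N.subtype.lTensor R' (incl.lTensor R' t)) ∈
      Submodule.span R' (f '' ((N ⊓ I • ⊤ : Submodule R F) : Set F)) := by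
    intro t
    induction t with
    | zero => simp
    | add a b ha hb => rw [map_add, map_add, map_add]; exact add_mem ha hb
    | tmul r x =>
      rw [LinearMap.lTensor_tmul, LinearMap.lTensor_tmul, hf.equiv_tmul]
      exact Submodule.smul_mem _ _ (Submodule.subset_span ⟨x, x.2, rfl⟩)
  have key2 : ∀ t : I' ⊗[R] N, hf.equiv (N.subtype.lTensor R'
      ((I'.subtype.restrictScalars R).rTensor N t)) ∈
      I' • Submodule.span R' (f '' (N : Set F)) := by
    intro t
    induction t with
    | zero => simp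
    | add a b ha hb => rw [map_add, map_add, map_add]; exact add_mem ha hb
    | tmul i n =>
      rw [LinearMap.rTensor_tmul, LinearMap.lTensor_tmul, hf.equiv_tmul]
      exact Submodule.smul_mem_smul i.2 (Submodule.subset_span ⟨n, n.2, rfl⟩)
  rw [hzdecomp, map_add, map_add]
  exact Submodule.add_mem_sup (key1 w') (key2 v)
end Main

end Groth.Agent.Lib.Helper14.FlatStage
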