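/-
Helper14 library (FlatStage): descent of the Tor-vanishing condition `TV` to a finitely generated
subalgebra.
-/
import Groth.Agent.Lib.Helper14.FlatStage.Descent
import Groth.Agent.Lib.Helper14.FlatStage.TorSurj

set_option autoImplicit false
universe u
open TensorProduct

attribute [local instance] MvPolynomial.algebraMvPolynomial

namespace Groth.Agent.Lib.Helper14.FlatStage

section Kgen
variable {R₀ : Type u} [CommRing R₀] {n b : ℕ} {κ : Type} (L : κ → Fm n b R₀)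
variable (D D' : Type u) [CommRing D] [Algebra R₀ D] [CommRing D'] [Algebra R₀ D'] [Algebra D D']
  [IsScalarTower R₀ D D']

theorem mapM_mk (v : Fm n b D) :
    mapM L D D' (Submodule.Quotient.mk v) = Submodule.Quotient.mk (mapF n b D D' v) :=
  quotMap_mk _ _ _ _ v

theorem equiv_lTensor_piD (w : D' ⊗[D] Fm n b D) :
    (isBaseChange_mapM L D D').equiv ((piD L D).lTensor D' w) =
      piD L D' ((isBaseChange_mapF (n := n) (b := b) (D := D) (D' := D')).equiv w) := by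
  induction w with
  | zero => simp
  | add x y hx hy => rw [map_add, map_add, hx, hy, map_add, map_add]
  | tmul r v =>
    rw [LinearMap.lTensor_tmul, IsBaseChange.equiv_tmul, IsBaseChange.equiv_tmul, map_smul]
    rfl

/-- relations over `D'` come from `D' ⊗ K_D`. -/
theorem exists_tensor_of_mem_Km (z : Fm n b D') (hz : z ∈ Km L D') :
    ∃ w : D' ⊗[D] KmD L D,
      (isBaseChange_mapF (n := n) (b := b) (D := D) (D' := D')).equiv
        ((KmD L D).subtype.lTensor D' w) = z := by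
  set hf := isBaseChange_mapF (n := n) (b := b) (D := D) (D' := D')
  have h1 : (piD L D).lTensor D' (hf.equiv.symm z) = 0 := by
    apply (isBaseChange_mapM L D D').equiv.injective
    rw [equiv_lTensor_piD, LinearEquiv.apply_symm_apply, map_zero]
    exact (Submodule.Quotient.mk_eq_zero _).2 hz
  obtain ⟨w, hw⟩ := (lTensor_exact D' (exact_KmD L D) (piD_surjective L D) _).1 h1
  exact ⟨w, by rw [hw, LinearEquiv.apply_symm_apply]⟩

/-- (Desc-2) -/
theorem TV_of_forall_mem_aK (a : R₀)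
    (H1 : Module.Flat (D ⧸ Ideal.span {algebraMap R₀ D a})
      ((D ⧸ Ideal.span {algebraMap R₀ D a}) ⊗[D] Mm L D))
    (hX : ∀ x ∈ Km L D ⊓ aF D (algebraMap R₀ D a),
      mapF n b D D' x ∈ aK L D' (algebraMap R₀ D' a)) :
    TV L D' (Ideal.span {algebraMap R₀ D' a}) := by
  rw [TV_span_singleton_iff]
  rintro z ⟨hzK, hzF⟩
  obtain ⟨w, hw⟩ := exists_tensor_of_mem_Km L D D' z hzK
  have H1' : Module.Flat (D ⧸ Ideal.span {algebraMap R₀ D a})
      ((D ⧸ Ideal.span {algebraMap R₀ D a}) ⊗[D] (Fm n b D ⧸ KmD L D)) :=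
    Module.Flat.of_linearEquiv (TensorProduct.AlgebraTensorModule.congr
      (LinearEquiv.refl (D ⧸ Ideal.span {algebraMap R₀ D a}) (D ⧸ Ideal.span {algebraMap R₀ D a}))
      (Submodule.Quotient.restrictScalarsEquiv D (Km L D)))
  have hmap : (Ideal.span {algebraMap R₀ D a}).map (algebraMap D D') =
      Ideal.span {algebraMap R₀ D' a} := by
    rw [Ideal.map_span, Set.image_singleton, ← IsScalarTower.algebraMap_apply]
  have key := tor_surj (Ideal.span {algebraMap R₀ D a}) (KmD L D)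
    ((mapF n b D D').restrictScalars D) (isBaseChange_mapF (n := n) (b := b)) H1' w (by
      rw [hw, hmap]
      exact (mem_aF_iff _ z).1 hzF)
  rw [hw, hmap] at key
  have hle : Submodule.span D' (((mapF n b D D').restrictScalars D) ''
        ((KmD L D ⊓ Ideal.span {algebraMap R₀ D a} • ⊤ : Submodule D (Fm n b D)) : Set (Fm n b D))) ⊔
      Ideal.span {algebraMap R₀ D' a} •
        Submodule.span D' (((mapF n b D D').restrictScalars D) '' (KmD L D : Set (Fm n b D))) ≤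
      (aK L D' (algebraMap R₀ D' a)).restrictScalars D' := by
    refine sup_le (Submodule.span_le.2 ?_) (Submodule.smul_le.2 ?_)
    · rintro _ ⟨x, ⟨hxK, hxI⟩, rfl⟩
      exact hX x ⟨hxK, (mem_aF_iff _ x).2 hxI⟩
    · intro r hr y hy
      obtain ⟨c, rfl⟩ := Ideal.mem_span_singleton'.1 hr
      have hyK : y ∈ KmD L D' := by
        refine (Submodule.span_le.2 ?_) hy
        rintro _ ⟨x, hx, rfl⟩
        exact mapF_mem_Km L D D' x hx
      refine ⟨c • y, (KmD L D').smul_mem c hyK, ?_⟩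
      rw [mul_comm, mul_smul]
  exact hle key

end Kgen

section El
variable {R₀ : Type u} [CommRing R₀] [IsNoetherianRing R₀] (J : Ideal R₀) (a : R₀)
  {A : Type u} [CommRing A] [Algebra R₀ A]
variable {n b : ℕ} {κ : Type} (L : κ → Fm n b R₀)

/-- (El) -/
theorem exists_mapFh_mem_aK
    (hTV : TV L (QJ J A) (Ideal.span {algebraMap R₀ (QJ J A) a}))
    (C₁ : Subalgebra R₀ A) (hC₁ : C₁.FG) (x : Fm n b (QJ J C₁))
    (hx : x ∈ Km L (QJ J C₁) ⊓ aF (QJ J C₁) (algebraMap R₀ (QJ J C₁) a)) :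
    ∃ C : Subalgebra R₀ A, C.FG ∧ C₁ ≤ C ∧ ∃ h : C₁ ≤ C,
      mapFh n b (tQ J h : QJ J C₁ →+* QJ J C) x ∈ aK L (QJ J C) (algebraMap R₀ (QJ J C) a) := by
  rw [TV_span_singleton_iff] at hTV
  -- image in `A`
  have hy : mapFh n b (vQ J C₁ : QJ J C₁ →+* QJ J A) x ∈
      aK L (QJ J A) (algebraMap R₀ (QJ J A) a) := by
    apply hTV
    refine ⟨mapFh_mem_Km L (vQ J C₁) x hx.1, ?_⟩
    have := mapFh_mem_aF (n := n) (b := b) (vQ J C₁ : QJ J C₁ →+* QJ J A) _ x hx.2
    rwa [RingHom.coe_coe, AlgHom.commutes] at this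
  obtain ⟨k, hk, hyk⟩ := hy
  obtain ⟨C₂, hC₂, hle₂, k', hk', rfl⟩ := exists_lift_Km J L k hk C₁ hC₁
  obtain ⟨C, hC, hle, hV⟩ := exists_mapFh_eq_zero (n := n) (b := b) J C₂ hC₂
  refine ⟨C, hC, hle₂.trans hle, hle₂.trans hle, ?_⟩
  have h0 := hV (mapFh n b (tQ J hle₂ : QJ J C₁ →+* QJ J C₂) x -
      algebraMap R₀ (QJ J C₂) a • k') (by
    rw [map_sub, mapFh_comp, vQ_tQ_comp, mapFh_smul', RingHom.coe_coe, AlgHom.commutes, hyk,
      sub_self])
  rw [map_sub, mapFh_comp, tQ_tQ_comp, sub_eq_zero, mapFh_smul', RingHom.coe_coe,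
    AlgHom.commutes] at h0
  rw [h0]
  exact ⟨_, mapFh_mem_Km L (tQ J hle) k' hk', rfl⟩

/-- (Desc-1) -/
theorem exists_forall_mapFh_mem_aK
    (hTV : TV L (QJ J A) (Ideal.span {algebraMap R₀ (QJ J A) a}))
    (C₁ : Subalgebra R₀ A) (hC₁ : C₁.FG) :
    ∃ C : Subalgebra R₀ A, C.FG ∧ ∃ h : C₁ ≤ C,
      ∀ x ∈ Km L (QJ J C₁) ⊓ aF (QJ J C₁) (algebraMap R₀ (QJ J C₁) a),
      mapFh n b (tQ J h : QJ J C₁ →+* QJ J C) x ∈ aK L (QJ J C) (algebraMap R₀ (QJ J C) a) := by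
  haveI := isNoetherianRing_QJ_of_fg J C₁ hC₁
  haveI : IsNoetherian (MvPolynomial (Fin n) (QJ J C₁)) (Fm n b (QJ J C₁)) := inferInstance
  obtain ⟨T, hT⟩ := IsNoetherian.noetherian
    (Km L (QJ J C₁) ⊓ aF (QJ J C₁) (algebraMap R₀ (QJ J C₁) a))
  obtain ⟨C, hC, hle, hP⟩ := exists_fg_ge_forall T C₁ hC₁
    (fun x C => ∃ h : C₁ ≤ C, mapFh n b (tQ J h : QJ J C₁ →+* QJ J C) x ∈
      aK L (QJ J C) (algebraMap R₀ (QJ J C) a))
    (by
      rintro x C C' h12 ⟨h, hx⟩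
      refine ⟨h.trans h12, ?_⟩
      have := mapFh_mem_aK L (tQ J h12) _ _ hx
      rwa [mapFh_comp, tQ_tQ_comp, AlgHom.commutes] at this)
    (by
      intro x hx
      have hx' : x ∈ Km L (QJ J C₁) ⊓ aF (QJ J C₁) (algebraMap R₀ (QJ J C₁) a) := by
        rw [← hT]; exact Submodule.subset_span hx
      obtain ⟨C, h1, h2, h3⟩ := exists_mapFh_mem_aK J a L hTV C₁ hC₁ x hx'
      exact ⟨C, h1, h2, h3⟩)
  refine ⟨C, hC, hle, ?_⟩
  intro x hx
  rw [← hT] at hx
  induction hx using Submodule.span_induction with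
  | mem x hx =>
    obtain ⟨_, h⟩ := hP x hx
    exact h
  | zero => rw [map_zero]; exact zero_mem _
  | add x y _ _ hx hy => rw [map_add]; exact add_mem hx hy
  | smul p x _ hx =>
    rw [mapFh_smul]
    exact Submodule.smul_mem _ _ hx

end El

section Desc
variable {R₀ : Type u} [CommRing R₀] [IsNoetherianRing R₀] (J : Ideal R₀) (a : R₀)
  {A : Type u} [CommRing A] [Algebra R₀ A]
variable {n b : ℕ} {κ : Type} (L : κ → Fm n b R₀)

/-- (Desc) -/
theorem exists_TV (hTV : TV L (QJ J A) (Ideal.span {algebraMap R₀ (QJ J A) a}))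
    (C₁ : Subalgebra R₀ A) (hC₁ : C₁.FG)
    (H1 : Module.Flat (QJ J C₁ ⧸ Ideal.span {algebraMap R₀ (QJ J C₁) a})
      ((QJ J C₁ ⧸ Ideal.span {algebraMap R₀ (QJ J C₁) a}) ⊗[QJ J C₁] Mm L (QJ J C₁))) :
    ∃ C : Subalgebra R₀ A, C.FG ∧ C₁ ≤ C ∧
      TV L (QJ J C) (Ideal.span {algebraMap R₀ (QJ J C) a}) := by
  obtain ⟨C, hC, h, hX⟩ := exists_forall_mapFh_mem_aK J a L hTV C₁ hC₁
  letI : Algebra (QJ J C₁) (QJ J C) := (tQ J h).toRingHom.toAlgebra
  haveI : IsScalarTower R₀ (QJ J C₁) (QJ J C) :=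
    IsScalarTower.of_algebraMap_eq (fun r => ((tQ J h).commutes r).symm)
  exact ⟨C, hC, h, TV_of_forall_mem_aK L (QJ J C₁) (QJ J C) a H1 (fun x hx => hX x hx)⟩

end Desc

end Groth.Agent.Lib.Helper14.FlatStage
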