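/-
Helper14 library (FlatStage): selection of an element `a ∉ J` such that the model module becomes
flat after inverting `a`, over every algebra killed by `J` (generic freeness).
-/
import Groth.Agent.Lib.Helper14.FlatStage.Model
import Groth.Agent.Lib.Helper28.GenFreeFT
set_option autoImplicit false
universe u
open TensorProduct
attribute [local instance] MvPolynomial.algebraMvPolynomial
namespace Groth.Agent.Lib.Helper14.FlatStage

section Sel
variable {R₀ : Type u} [CommRing R₀] [IsNoetherianRing R₀]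

theorem exists_prime_colon (J : Ideal R₀) (hJ : J ≠ ⊤) :
    ∃ (𝔭 : Ideal R₀) (x : R₀), 𝔭.IsPrime ∧ x ∉ J ∧ ∀ r, r ∈ 𝔭 ↔ r * x ∈ J := by
  haveI : Nontrivial (R₀ ⧸ J) := Ideal.Quotient.nontrivial_iff.2 hJ
  obtain ⟨𝔭, h𝔭⟩ := associatedPrimes.nonempty R₀ (R₀ ⧸ J)
  rw [AssociatedPrimes.mem_iff, isAssociatedPrime_iff] at h𝔭
  obtain ⟨hp, xb, hxb⟩ := h𝔭
  obtain ⟨x, rfl⟩ := Ideal.Quotient.mk_surjective xb
  have hmem : ∀ r, r ∈ 𝔭 ↔ r * x ∈ J := by
    intro r
    rw [hxb, Submodule.mem_colon_singleton, Submodule.mem_bot, ← Ideal.Quotient.eq_zero_iff_mem,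
      map_mul]
    rfl
  refine ⟨𝔭, x, hp, ?_, hmem⟩
  intro hx
  exact hp.ne_top ((Ideal.eq_top_iff_one _).2 ((hmem 1).2 (by rwa [one_mul])))

variable {n b : ℕ} {κ : Type} (L : κ → Fm n b R₀)

theorem exists_sel_away (J : Ideal R₀) (hJ : J ≠ ⊤) :
    ∃ a : R₀, a ∉ J ∧ ∀ (D : Type u) [CommRing D] [Algebra R₀ D],
      (∀ j ∈ J, algebraMap R₀ D j = 0) →
      Module.Flat (Localization.Away (algebraMap R₀ D a))
        (Mm L (Localization.Away (algebraMap R₀ D a))) := by
  obtain ⟨𝔭, x, hp, hxJ, hmem⟩ := exists_prime_colon J hJ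
  by_cases hx : x ∈ 𝔭
  · refine ⟨x, hxJ, fun D _ _ hD => ?_⟩
    have hx2 : x * x ∈ J := (hmem x).1 hx
    have h0 : algebraMap R₀ D x ^ 2 = 0 := by
      rw [pow_two, ← map_mul]
      exact hD _ hx2
    haveI : Subsingleton (Localization.Away (algebraMap R₀ D x)) :=
      IsLocalization.subsingleton (M := Submonoid.powers (algebraMap R₀ D x)) ⟨2, h0⟩
    haveI : Subsingleton (Mm L (Localization.Away (algebraMap R₀ D x))) :=
      Module.subsingleton (Localization.Away (algebraMap R₀ D x)) _
    exact Module.Flat.of_free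
  · obtain ⟨fb, hfb, hfree⟩ := Groth.Agent.Lib.Helper28.GenFree.genFree_finiteType
      (R := R₀ ⧸ 𝔭) (S := MvPolynomial (Fin n) (R₀ ⧸ 𝔭)) (Mm L (R₀ ⧸ 𝔭))
    obtain ⟨f, rfl⟩ := Ideal.Quotient.mk_surjective fb
    have hf : f ∉ 𝔭 := fun h => hfb (Ideal.Quotient.eq_zero_iff_mem.2 h)
    refine ⟨f * x, fun h => hf ((hmem f).2 h), fun D _ _ hD => ?_⟩
    -- the ring `T`
    have hT : Module.Flat (Localization.Away (Ideal.Quotient.mk 𝔭 f))
        (Mm L (Localization.Away (Ideal.Quotient.mk 𝔭 f))) := by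
      haveI : Module.Free (Localization.Away (Ideal.Quotient.mk 𝔭 f))
          (Localization.Away (Ideal.Quotient.mk 𝔭 f) ⊗[R₀ ⧸ 𝔭] Mm L (R₀ ⧸ 𝔭)) := hfree
      haveI : Module.Free (Localization.Away (Ideal.Quotient.mk 𝔭 f))
          (Mm L (Localization.Away (Ideal.Quotient.mk 𝔭 f))) :=
        Module.Free.of_equiv (isBaseChange_mapM L (R₀ ⧸ 𝔭)
          (Localization.Away (Ideal.Quotient.mk 𝔭 f))).equiv
      exact Module.Flat.of_free
    -- the map `T → D_a`
    set ab := algebraMap R₀ D (f * x) with hab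
    have hunit : IsUnit (algebraMap R₀ (Localization.Away ab) (f * x)) := by
      rw [IsScalarTower.algebraMap_apply R₀ D (Localization.Away ab)]
      exact IsLocalization.Away.algebraMap_isUnit ab
    have hunitf : IsUnit (algebraMap R₀ (Localization.Away ab) f) := by
      rw [map_mul] at hunit
      exact isUnit_of_mul_isUnit_left hunit
    have hunitx : IsUnit (algebraMap R₀ (Localization.Away ab) x) := by
      rw [map_mul] at hunit
      exact isUnit_of_mul_isUnit_right hunit
    have hker : ∀ p ∈ 𝔭, algebraMap R₀ (Localization.Away ab) p = 0 := by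
      intro p hp'
      have h1 : algebraMap R₀ D (p * x) = 0 := hD _ ((hmem p).1 hp')
      have h2 : algebraMap R₀ (Localization.Away ab) p *
          algebraMap R₀ (Localization.Away ab) x = 0 := by
        rw [← map_mul, IsScalarTower.algebraMap_apply R₀ D (Localization.Away ab), h1, map_zero]
      exact (hunitx.mul_left_eq_zero).1 h2
    let φ₁ : R₀ ⧸ 𝔭 →+* Localization.Away ab :=
      Ideal.Quotient.lift 𝔭 (algebraMap R₀ (Localization.Away ab)) hker
    have hφ₁ : IsUnit (φ₁ (Ideal.Quotient.mk 𝔭 f)) := by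
      show IsUnit (Ideal.Quotient.lift 𝔭 (algebraMap R₀ (Localization.Away ab)) hker
        (Ideal.Quotient.mk 𝔭 f))
      rw [Ideal.Quotient.lift_mk]
      exact hunitf
    let φ₂ : Localization.Away (Ideal.Quotient.mk 𝔭 f) →+* Localization.Away ab :=
      IsLocalization.Away.lift (Ideal.Quotient.mk 𝔭 f) hφ₁
    let ψ : Localization.Away (Ideal.Quotient.mk 𝔭 f) →ₐ[R₀] Localization.Away ab :=
      { φ₂ with
        commutes' := by
          intro r
          show φ₂ (algebraMap R₀ (Localization.Away (Ideal.Quotient.mk 𝔭 f)) r) = _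
          rw [IsScalarTower.algebraMap_apply R₀ (R₀ ⧸ 𝔭)
            (Localization.Away (Ideal.Quotient.mk 𝔭 f))]
          show IsLocalization.Away.lift (Ideal.Quotient.mk 𝔭 f) hφ₁ _ = _
          rw [IsLocalization.Away.lift_eq]
          rfl }
    exact flat_of_algHom L ψ hT
theorem flat_localizedModule_of_flat_away (D : Type u) [CommRing D] [Algebra R₀ D] (a : D)
    (h : Module.Flat (Localization.Away a) (Mm L (Localization.Away a))) :
    Module.Flat D (LocalizedModule (Submonoid.powers a) (Mm L D)) := by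
  have hbc := isBaseChange_mapM L D (Localization.Away a)
  have hloc : IsLocalizedModule (Submonoid.powers a)
      ((mapM L D (Localization.Away a)).restrictScalars D) :=
    (isLocalizedModule_iff_isBaseChange (Submonoid.powers a) (Localization.Away a) _).2 hbc
  haveI : Module.Flat D (Localization.Away a) := IsLocalization.flat _ (Submonoid.powers a)
  haveI : Module.Flat D (Mm L (Localization.Away a)) :=
    Module.Flat.trans D (Localization.Away a) _
  exact Module.Flat.of_linearEquiv
    (IsLocalizedModule.linearEquiv (Submonoid.powers a)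
      (LocalizedModule.mkLinearMap (Submonoid.powers a) (Mm L D))
      ((mapM L D (Localization.Away a)).restrictScalars D))

theorem exists_sel (J : Ideal R₀) (hJ : J ≠ ⊤) :
    ∃ a : R₀, a ∉ J ∧ ∀ (D : Type u) [CommRing D] [Algebra R₀ D],
      (∀ j ∈ J, algebraMap R₀ D j = 0) →
      Module.Flat D (LocalizedModule (Submonoid.powers (algebraMap R₀ D a)) (Mm L D)) := by
  obtain ⟨a, haJ, h⟩ := exists_sel_away L J hJ
  exact ⟨a, haJ, fun D _ _ hD => flat_localizedModule_of_flat_away L D _ (h D hD)⟩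

end Sel
end Groth.Agent.Lib.Helper14.FlatStage
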