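/-
Helper14 library (FlatStage): flatness of the model module descends to a finitely generated
subalgebra (EGA IV 11.2.6, via Noetherian induction on ideals of the Noetherian base ring).

Main result: `exists_fg_flat`.
-/
import Groth.Agent.Lib.Helper14.FlatStage.Descent2
import Groth.Agent.Lib.Helper14.FlatStage.Criterion
import Groth.Agent.Lib.Helper14.FlatStage.Select

set_option autoImplicit false
universe u
open TensorProduct

attribute [local instance] MvPolynomial.algebraMvPolynomial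

namespace Groth.Agent.Lib.Helper14.FlatStage

section Aux
variable {R₀ : Type u} [CommRing R₀] {n b : ℕ} {κ : Type} (L : κ → Fm n b R₀)

theorem algebraMap_quot_eq_zero (J : Ideal R₀) (a : R₀) (C : Type u) [CommRing C] [Algebra R₀ C]
    (r : R₀) (hr : r ∈ J ⊔ Ideal.span {a}) :
    algebraMap R₀ (QJ J C ⧸ Ideal.span {algebraMap R₀ (QJ J C) a}) r = 0 := by
  obtain ⟨j, hj, s, hs, rfl⟩ := Submodule.mem_sup.1 hr
  obtain ⟨c, rfl⟩ := Ideal.mem_span_singleton'.1 hs
  rw [map_add, map_mul]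
  have h1 : algebraMap R₀ (QJ J C ⧸ Ideal.span {algebraMap R₀ (QJ J C) a}) j = 0 := by
    rw [IsScalarTower.algebraMap_apply R₀ (QJ J C)
      (QJ J C ⧸ Ideal.span {algebraMap R₀ (QJ J C) a}) j, QJ_algebraMap_eq_zero J C j hj, map_zero]
  have h2 : algebraMap R₀ (QJ J C ⧸ Ideal.span {algebraMap R₀ (QJ J C) a}) a = 0 := by
    rw [IsScalarTower.algebraMap_apply R₀ (QJ J C)
      (QJ J C ⧸ Ideal.span {algebraMap R₀ (QJ J C) a}) a]
    exact Ideal.Quotient.eq_zero_iff_mem.2 (Ideal.subset_span (Set.mem_singleton _))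
  rw [h1, h2, mul_zero, add_zero]

/-- flatness modulo `J + (a)` gives flatness of the reduction modulo `a` over `D/a`, `D = C/JC`. -/
theorem flat_quot_tensor (J : Ideal R₀) (a : R₀) (C : Type u) [CommRing C] [Algebra R₀ C]
    (h : Module.Flat (QJ (J ⊔ Ideal.span {a}) C) (Mm L (QJ (J ⊔ Ideal.span {a}) C))) :
    Module.Flat (QJ J C ⧸ Ideal.span {algebraMap R₀ (QJ J C) a})
      ((QJ J C ⧸ Ideal.span {algebraMap R₀ (QJ J C) a}) ⊗[QJ J C] Mm L (QJ J C)) := by
  let g : C →ₐ[R₀] QJ J C ⧸ Ideal.span {algebraMap R₀ (QJ J C) a} :=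
    (Ideal.Quotient.mkₐ R₀ (Ideal.span {algebraMap R₀ (QJ J C) a})).comp
      (Ideal.Quotient.mkₐ R₀ (J.map (algebraMap R₀ C)))
  have hg : ∀ x : C, x ∈ (J ⊔ Ideal.span {a}).map (algebraMap R₀ C) → g x = 0 := by
    intro x hx
    have hle : (J ⊔ Ideal.span {a}).map (algebraMap R₀ C) ≤ RingHom.ker g.toRingHom := by
      rw [Ideal.map_le_iff_le_comap]
      intro r hr
      rw [Ideal.mem_comap, RingHom.mem_ker]
      show g (algebraMap R₀ C r) = 0
      rw [g.commutes]
      exact algebraMap_quot_eq_zero J a C r hr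
    exact hle hx
  let χ : QJ (J ⊔ Ideal.span {a}) C →ₐ[R₀] QJ J C ⧸ Ideal.span {algebraMap R₀ (QJ J C) a} :=
    Ideal.Quotient.liftₐ _ g hg
  have h1 := flat_of_algHom L χ h
  exact Module.Flat.of_linearEquiv (isBaseChange_mapM L (QJ J C)
    (QJ J C ⧸ Ideal.span {algebraMap R₀ (QJ J C) a})).equiv

theorem flat_QJ_mono {J J' : Ideal R₀} (hJ : J ≤ J') (A : Type u) [CommRing A] [Algebra R₀ A]
    (h : Module.Flat (QJ J A) (Mm L (QJ J A))) : Module.Flat (QJ J' A) (Mm L (QJ J' A)) :=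
  flat_of_algHom L (Ideal.Quotient.factorₐ R₀ (Ideal.map_mono hJ)) h

end Aux

section Induction
variable {R₀ : Type u} [CommRing R₀] [IsNoetherianRing R₀] {n b : ℕ} {κ : Type} (L : κ → Fm n b R₀)

/-- the inductive statement -/
def Phi (J : Ideal R₀) : Prop :=
  ∀ (A : Type u) [CommRing A] [Algebra R₀ A], Module.Flat (QJ J A) (Mm L (QJ J A)) →
    ∃ C : Subalgebra R₀ A, C.FG ∧ Module.Flat (QJ J C) (Mm L (QJ J C))

theorem phi_step (J : Ideal R₀) (IH : ∀ J' > J, Phi L J') : Phi L J := by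
  intro A _ _ hA
  by_cases hJ : J = ⊤
  · refine ⟨⊥, Subalgebra.fg_bot, ?_⟩
    haveI : Subsingleton (QJ J (⊥ : Subalgebra R₀ A)) := by
      rw [Ideal.Quotient.subsingleton_iff, hJ, Ideal.map_top]
    haveI : Subsingleton (Mm L (QJ J (⊥ : Subalgebra R₀ A))) :=
      Module.subsingleton (QJ J (⊥ : Subalgebra R₀ A)) _
    exact Module.Flat.of_free
  · obtain ⟨a, haJ, hsel⟩ := exists_sel L J hJ
    have hlt : J < J ⊔ Ideal.span {a} := by
      refine lt_of_le_of_ne le_sup_left ?_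
      intro heq
      apply haJ
      rw [heq]
      exact (le_sup_right : Ideal.span {a} ≤ J ⊔ Ideal.span {a})
        (Ideal.subset_span (Set.mem_singleton a))
    have hA' := flat_QJ_mono L (le_sup_left : J ≤ J ⊔ Ideal.span {a}) A hA
    obtain ⟨C₁, hC₁, hfl₁⟩ := IH _ hlt A hA'
    have hTV := TV_of_flat L (QJ J A) hA (Ideal.span {algebraMap R₀ (QJ J A) a})
    have H1₁ := flat_quot_tensor L J a C₁ hfl₁
    obtain ⟨C, hC, hle, hTVC⟩ := exists_TV J a L hTV C₁ hC₁ H1₁
    have hflC' : Module.Flat (QJ (J ⊔ Ideal.span {a}) C) (Mm L (QJ (J ⊔ Ideal.span {a}) C)) :=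
      flat_of_algHom L (QJmap (J ⊔ Ideal.span {a}) (Subalgebra.inclusion hle)) hfl₁
    have H1C := flat_quot_tensor L J a C hflC'
    refine ⟨C, hC, ?_⟩
    haveI := isNoetherianRing_QJ_of_fg J C hC
    exact flat_of_criterion_away (MvPolynomial (Fin n) (QJ J C)) (Mm L (QJ J C))
      (algebraMap R₀ (QJ J C) a) H1C
      (rTensor_injective_of_TV L (QJ J C) _ hTVC)
      (hsel (QJ J C) (fun j hj => QJ_algebraMap_eq_zero J C j hj))

theorem phi_all (J : Ideal R₀) : Phi L J :=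
  IsNoetherian.induction (P := Phi L) (fun J IH => phi_step L J IH) J

/-- **EGA IV 11.2.6 (model form)**: if the model module over an `R₀`-algebra `A` is flat, it is
already flat over a finitely generated `R₀`-subalgebra. -/
theorem exists_fg_flat (A : Type u) [CommRing A] [Algebra R₀ A] (h : Module.Flat A (Mm L A)) :
    ∃ C : Subalgebra R₀ A, C.FG ∧ Module.Flat C (Mm L C) := by
  have h1 : Module.Flat (QJ (⊥ : Ideal R₀) A) (Mm L (QJ (⊥ : Ideal R₀) A)) :=
    flat_of_algHom L (Ideal.Quotient.mkₐ R₀ _) h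
  obtain ⟨C, hC, hfl⟩ := phi_all L ⊥ A h1
  refine ⟨C, hC, ?_⟩
  have hbot : ∀ x : C, x ∈ (⊥ : Ideal R₀).map (algebraMap R₀ C) → (AlgHom.id R₀ C) x = 0 := by
    intro x hx
    rw [Ideal.map_bot] at hx
    exact hx
  exact flat_of_algHom L (Ideal.Quotient.liftₐ _ (AlgHom.id R₀ C) hbot) hfl

end Induction

end Groth.Agent.Lib.Helper14.FlatStage
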