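/-
Helper14 library (FlatStage): interfaces between the model module and finitely presented modules
over finitely presented algebras; lifting finitely generated subalgebras to a stage of a directed
colimit.
-/
import Groth.Agent.Lib.Helper14.FlatStage.Main
import Groth.Prelude.Def_FlatCA

set_option autoImplicit false
universe u
open TensorProduct

attribute [local instance] MvPolynomial.algebraMvPolynomial

namespace Groth.Agent.Lib.Helper14.FlatStage

theorem exists_coeff_ring (A₀ : Type u) [CommRing A₀] {n b : ℕ} {κ : Type} [Fintype κ]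
    (ℓ : κ → Fm n b A₀) :
    ∃ R₀ : Subalgebra ℤ A₀, R₀.FG ∧ ∃ L : κ → Fm n b R₀,
      ∀ j, mapF n b R₀ A₀ (L j) = ℓ j := by
  classical
  let S : Finset A₀ := Finset.univ.biUnion (fun j : κ =>
    Finset.univ.biUnion (fun i : Fin b => (ℓ j i).coeffs))
  refine ⟨Algebra.adjoin ℤ (S : Set A₀), Subalgebra.fg_adjoin_finset S, ?_⟩
  have h : ∀ j i, ∃ p : MvPolynomial (Fin n) (Algebra.adjoin ℤ (S : Set A₀)),
      MvPolynomial.map (algebraMap (Algebra.adjoin ℤ (S : Set A₀)) A₀) p = ℓ j i := by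
    intro j i
    apply MvPolynomial.mem_range_map_iff_coeffs_subset.2
    intro c hc
    have hcS : c ∈ S := by
      simp only [S, Finset.mem_biUnion, Finset.mem_univ, true_and]
      exact ⟨j, i, hc⟩
    exact ⟨⟨c, Algebra.subset_adjoin hcS⟩, rfl⟩
  choose L hL using h
  exact ⟨L, fun j => funext (fun i => hL j i)⟩


theorem exists_presentation (A₀ B₀ M₀ : Type u) [CommRing A₀] [CommRing B₀] [Algebra A₀ B₀]
    [Algebra.FinitePresentation A₀ B₀] [AddCommGroup M₀] [Module B₀ M₀] [Module A₀ M₀]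
    [IsScalarTower A₀ B₀ M₀] [Module.FinitePresentation B₀ M₀] :
    ∃ (n b e : ℕ) (ℓ : Fin e → Fm n b A₀), Nonempty (M₀ ≃ₗ[A₀]
      (Fm n b A₀ ⧸ Submodule.span (MvPolynomial (Fin n) A₀) (Set.range ℓ))) := by
  obtain ⟨n, π, hπ, hker⟩ := Algebra.FinitePresentation.out (R := A₀) (A := B₀)
  letI : Algebra (MvPolynomial (Fin n) A₀) B₀ := π.toRingHom.toAlgebra
  letI : Module (MvPolynomial (Fin n) A₀) M₀ := Module.compHom M₀ π.toRingHom
  haveI : IsScalarTower (MvPolynomial (Fin n) A₀) B₀ M₀ :=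
    ⟨fun p c m => by
      show (π p * c) • m = π p • (c • m)
      exact mul_smul _ _ _⟩
  haveI : IsScalarTower A₀ (MvPolynomial (Fin n) A₀) M₀ :=
    ⟨fun a p m => by
      show π (a • p) • m = a • (π p • m)
      rw [map_smul, smul_assoc]⟩
  haveI : Module.FinitePresentation (MvPolynomial (Fin n) A₀) B₀ := by
    refine Module.finitePresentation_of_surjective
      (Algebra.linearMap (MvPolynomial (Fin n) A₀) B₀) hπ ?_
    exact hker
  haveI : Module.FinitePresentation (MvPolynomial (Fin n) A₀) M₀ :=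
    Module.FinitePresentation.trans (MvPolynomial (Fin n) A₀) M₀ B₀
  obtain ⟨b, K, eK, hK⟩ := Module.FinitePresentation.exists_fin (MvPolynomial (Fin n) A₀) M₀
  obtain ⟨e, ℓ, hℓ⟩ := Submodule.fg_iff_exists_fin_generating_family.1 hK
  subst hℓ
  exact ⟨n, b, e, ℓ, ⟨eK.restrictScalars A₀⟩⟩


/-- a finitely presented module over a finitely presented algebra is a model module, with
coefficients in a finitely generated subring. -/
theorem exists_model (A₀ B₀ M₀ : Type u) [CommRing A₀] [CommRing B₀] [Algebra A₀ B₀]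
    [Algebra.FinitePresentation A₀ B₀] [AddCommGroup M₀] [Module B₀ M₀] [Module A₀ M₀]
    [IsScalarTower A₀ B₀ M₀] [Module.FinitePresentation B₀ M₀] :
    ∃ (n b e : ℕ) (R₀ : Subalgebra ℤ A₀) (_ : R₀.FG) (L : Fin e → Fm n b R₀),
      Nonempty (M₀ ≃ₗ[A₀] Mm L A₀) := by
  obtain ⟨n, b, e, ℓ, ⟨iso⟩⟩ := exists_presentation A₀ B₀ M₀
  obtain ⟨R₀, hR₀, L, hL⟩ := exists_coeff_ring A₀ ℓ
  have hK : Submodule.span (MvPolynomial (Fin n) A₀) (Set.range ℓ) = Km L A₀ := by
    unfold Km
    congr 2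
    funext j
    exact (hL j).symm
  exact ⟨n, b, e, R₀, hR₀, L,
    ⟨iso ≪≫ₗ (Submodule.quotEquivOfEq _ _ hK).restrictScalars A₀⟩⟩

/-- a finitely generated subalgebra of a directed colimit (over a Noetherian base) maps to a
stage. -/
theorem exists_algHom_stage {R₀ : Type u} [CommRing R₀] [IsNoetherianRing R₀]
    {ι : Type u} [Preorder ι] (G : ι → Type u) [∀ i, CommRing (G i)] [∀ i, Algebra R₀ (G i)]
    (g : ∀ i j, i ≤ j → G i →ₐ[R₀] G j)
    (A : Type u) [CommRing A] [Algebra R₀ A] [∀ i, Algebra (G i) A]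
    [∀ i, IsScalarTower R₀ (G i) A]
    (hcolim : FlatCA.IsDirectedColimitRing G (fun i j h => (g i j h).toRingHom) A)
    (C : Subalgebra R₀ A) (hC : C.FG) : ∃ j, Nonempty (C →ₐ[R₀] G j) := by
  classical
  haveI : Algebra.FiniteType R₀ C := (Subalgebra.fg_iff_finiteType C).1 hC
  haveI : Algebra.FinitePresentation R₀ C := Algebra.FinitePresentation.of_finiteType.1 inferInstance
  obtain ⟨m, ρ, hρ, T, hT⟩ := Algebra.FinitePresentation.out (R := R₀) (A := C)
  obtain ⟨hdir, hne, hid, hcomp, hcompat, hsurj, hinj⟩ := hcolim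
  haveI := hdir
  haveI := hne
  have h1 : ∀ k : Fin m, ∃ i, ∃ y : G i, algebraMap (G i) A y = (ρ (MvPolynomial.X k) : A) :=
    fun k => hsurj _
  choose ik yk hyk using h1
  obtain ⟨i, hi⟩ := Finset.exists_le (Finset.univ.image ik)
  have hik : ∀ k, ik k ≤ i := fun k => hi _ (Finset.mem_image_of_mem _ (Finset.mem_univ k))
  let y : Fin m → G i := fun k => g (ik k) i (hik k) (yk k)
  have hy : ∀ k, algebraMap (G i) A (y k) = (ρ (MvPolynomial.X k) : A) := by
    intro k
    rw [← hyk k]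
    exact congrArg (fun φ => φ (yk k)) (hcompat (ik k) i (hik k))
  let σ : MvPolynomial (Fin m) R₀ →ₐ[R₀] G i := MvPolynomial.aeval y
  have hσ : ∀ p, algebraMap (G i) A (σ p) = (ρ p : A) := by
    intro p
    have : (IsScalarTower.toAlgHom R₀ (G i) A).comp σ = C.val.comp ρ := by
      apply MvPolynomial.algHom_ext
      intro k
      simp only [AlgHom.comp_apply, σ, MvPolynomial.aeval_X]
      exact hy k
    exact congrArg (fun φ => φ p) this
  have h2 : ∀ t ∈ T, ∃ j, ∃ h : i ≤ j, g i j h (σ t) = 0 := by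
    intro t ht
    refine hinj i (σ t) ?_
    rw [hσ]
    have : t ∈ RingHom.ker ρ.toRingHom := by
      rw [← hT]; exact Ideal.subset_span ht
    have h0 : ρ t = 0 := this
    rw [h0]
    rfl
  choose! jt hjt hgt using h2
  obtain ⟨j, hj⟩ := Finset.exists_le (insert i (T.image jt))
  have hij : i ≤ j := hj i (Finset.mem_insert_self _ _)
  have h3 : ∀ t ∈ T, g i j hij (σ t) = 0 := by
    intro t ht
    have hle : jt t ≤ j := hj _ (Finset.mem_insert_of_mem (Finset.mem_image_of_mem _ ht))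
    have := congrArg (fun φ => φ (σ t)) (hcomp i (jt t) j (hjt t ht) hle)
    simp only [RingHom.comp_apply, AlgHom.toRingHom_eq_coe, RingHom.coe_coe] at this
    rw [← this, hgt t ht, map_zero]
  let σ' : MvPolynomial (Fin m) R₀ →ₐ[R₀] G j := (g i j hij).comp σ
  have hker' : ∀ p, p ∈ RingHom.ker ρ.toRingHom → σ' p = 0 := by
    intro p hp
    rw [← hT] at hp
    have hle : Ideal.span (T : Set (MvPolynomial (Fin m) R₀)) ≤ RingHom.ker σ'.toRingHom := by
      rw [Ideal.span_le]
      intro t ht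
      exact h3 t ht
    exact hle hp
  exact ⟨j, ⟨(Ideal.Quotient.liftₐ (RingHom.ker ρ.toRingHom) σ' hker').comp
    (Ideal.quotientKerAlgEquivOfSurjective hρ).symm.toAlgHom⟩⟩


end Groth.Agent.Lib.Helper14.FlatStage
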