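/-
Helper14 library (FlatStage): descent of faithfully flat finitely presented algebras.
-/
import Groth.Agent.Lib.Helper14.FlatStage.IntModel2

set_option autoImplicit false
universe u
open CategoryTheory CategoryTheory.Limits AlgebraicGeometry TensorProduct PrimeSpectrum

namespace Groth.Agent.Lib.Helper14.FlatStage

theorem exists_comap_tensor_eq {A₁ D T₁ : Type u} [CommRing A₁] [CommRing D] [CommRing T₁]
    [Algebra A₁ D] [Algebra A₁ T₁]
    (x : PrimeSpectrum D) (y : PrimeSpectrum T₁)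
    (h : comap (algebraMap A₁ D) x = comap (algebraMap A₁ T₁) y) :
    ∃ z : PrimeSpectrum (D ⊗[A₁] T₁), comap (algebraMap D (D ⊗[A₁] T₁)) z = x := by
  obtain ⟨z₀, hz₀, -⟩ := Scheme.Pullback.exists_preimage_pullback
    (f := Spec.map (CommRingCat.ofHom (algebraMap A₁ D)))
    (g := Spec.map (CommRingCat.ofHom (algebraMap A₁ T₁))) x y h
  refine ⟨(pullbackSpecIso A₁ D T₁).hom z₀, ?_⟩
  have := congrArg (fun φ => φ z₀) (pullbackSpecIso_hom_fst' A₁ D T₁)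
  simp only [Scheme.Hom.comp_apply] at this
  rw [← hz₀, ← this]
  rfl

theorem faithfullyFlat_tensor_of_map_eq_top {A₁ T₁ D : Type u} [CommRing A₁] [CommRing T₁]
    [CommRing D] [Algebra A₁ T₁] [Module.Flat A₁ T₁] [Algebra A₁ D] (𝔠 : Ideal A₁)
    (h𝔠 : zeroLocus (𝔠 : Set A₁) = (Set.range (comap (algebraMap A₁ T₁)))ᶜ)
    (hD : 𝔠.map (algebraMap A₁ D) = ⊤) : Module.FaithfullyFlat D (D ⊗[A₁] T₁) := by
  haveI : Module.Flat D (D ⊗[A₁] T₁) := inferInstance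
  apply Module.FaithfullyFlat.of_comap_surjective
  intro x
  have hx : comap (algebraMap A₁ D) x ∉ zeroLocus (𝔠 : Set A₁) := by
    intro hmem
    rw [mem_zeroLocus] at hmem
    have : 𝔠.map (algebraMap A₁ D) ≤ x.asIdeal := Ideal.map_le_iff_le_comap.2 hmem
    rw [hD] at this
    exact x.isPrime.ne_top (top_le_iff.1 this)
  rw [h𝔠, Set.mem_compl_iff, not_not] at hx
  obtain ⟨y, hy⟩ := hx
  exact exists_comap_tensor_eq x y hy.symm

theorem exists_ideal_map_eq_top {A₁ T₁ A B : Type u} [CommRing A₁] [CommRing T₁] [CommRing A]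
    [CommRing B] [Algebra A₁ T₁] [Module.Flat A₁ T₁] [Algebra.FinitePresentation A₁ T₁]
    [Algebra A₁ A] [Algebra A B] [Algebra A₁ B] [Algebra T₁ B] [IsScalarTower A₁ A B]
    [IsScalarTower A₁ T₁ B] [Module.FaithfullyFlat A B] :
    ∃ 𝔠 : Ideal A₁, zeroLocus (𝔠 : Set A₁) = (Set.range (comap (algebraMap A₁ T₁)))ᶜ ∧
      𝔠.map (algebraMap A₁ A) = ⊤ := by
  have hopen : IsOpen (Set.range (comap (algebraMap A₁ T₁))) :=
    (isOpenMap_comap_of_hasGoingDown_of_finitePresentation (R := A₁) (S := T₁)).isOpen_range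
  obtain ⟨𝔠, h𝔠⟩ := (isClosed_iff_zeroLocus_ideal _).1 hopen.isClosed_compl
  refine ⟨𝔠, h𝔠.symm, ?_⟩
  by_contra hne
  obtain ⟨𝔪, hmax, hle⟩ := Ideal.exists_le_maximal _ hne
  obtain ⟨q, hq⟩ := PrimeSpectrum.comap_surjective_of_faithfullyFlat (A := A) (B := B)
    ⟨𝔪, hmax.isPrime⟩
  have hcomp : comap (algebraMap A₁ T₁) (comap (algebraMap T₁ B) q) =
      comap (algebraMap A₁ A) ⟨𝔪, hmax.isPrime⟩ := by
    rw [← hq]
    apply PrimeSpectrum.ext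
    show Ideal.comap (algebraMap A₁ T₁) (Ideal.comap (algebraMap T₁ B) q.asIdeal) =
      Ideal.comap (algebraMap A₁ A) (Ideal.comap (algebraMap A B) q.asIdeal)
    rw [Ideal.comap_comap, Ideal.comap_comap, ← IsScalarTower.algebraMap_eq,
      ← IsScalarTower.algebraMap_eq]
  have h1 : comap (algebraMap A₁ A) ⟨𝔪, hmax.isPrime⟩ ∈
      Set.range (comap (algebraMap A₁ T₁)) := ⟨_, hcomp⟩
  have h2 : comap (algebraMap A₁ A) ⟨𝔪, hmax.isPrime⟩ ∈ zeroLocus (𝔠 : Set A₁) := by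
    rw [mem_zeroLocus]
    exact Ideal.map_le_iff_le_comap.1 hle
  rw [← h𝔠] at h2
  exact h2 h1

theorem descend_ff_aux2 {R A B : Type u} [CommRing R] [CommRing A] [CommRing B] [Algebra R A]
    [Algebra A B] (A₁ T₁ A₂ : Type u) [CommRing A₁] [CommRing T₁] [CommRing A₂]
    [Algebra A₁ A] [Algebra A₁ T₁] [Algebra T₁ B] [Algebra A₁ B] [IsScalarTower A₁ A B]
    [IsScalarTower A₁ T₁ B] [Algebra.IsPushout A₁ A T₁ B]
    [Algebra.FinitePresentation A₁ T₁] [Module.Flat A₁ T₁]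
    [Algebra A₁ A₂] [Algebra A₂ A] [IsScalarTower A₁ A₂ A] (hfin₂ : Algebra.FiniteType ℤ A₂)
    (𝔠 : Ideal A₁)
    (h𝔠 : zeroLocus (𝔠 : Set A₁) = (Set.range (comap (algebraMap A₁ T₁)))ᶜ)
    (h₂ : 𝔠.map (algebraMap A₁ A₂) = ⊤) :
    ∃ (A₀ B₀ : Type u) (_ : CommRing A₀) (_ : CommRing B₀) (_ : Algebra R A₀) (_ : Algebra A₀ A)
      (_ : IsScalarTower R A₀ A) (_ : Algebra A₀ B₀), Algebra.FinitePresentation R A₀ ∧
      Algebra.FinitePresentation A₀ B₀ ∧ Module.FaithfullyFlat A₀ B₀ ∧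
      Nonempty (B ≃ₐ[A] A ⊗[A₀] B₀) := by
  haveI : Algebra.FinitePresentation ℤ A₂ := Algebra.FinitePresentation.of_finiteType.1 hfin₂
  let φ : R ⊗[ℤ] A₂ →ₐ[R] A :=
    Algebra.TensorProduct.lift (Algebra.ofId R A) (algebraMap A₂ A).toIntAlgHom
      (fun _ _ => Commute.all _ _)
  letI algA₀A : Algebra (R ⊗[ℤ] A₂) A := φ.toRingHom.toAlgebra
  haveI tow0 : IsScalarTower R (R ⊗[ℤ] A₂) A :=
    IsScalarTower.of_algebraMap_eq (fun r => (φ.commutes r).symm)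
  letI algA₂A₀ : Algebra A₂ (R ⊗[ℤ] A₂) :=
    (Algebra.TensorProduct.includeRight : A₂ →ₐ[ℤ] R ⊗[ℤ] A₂).toRingHom.toAlgebra
  letI algA₁A₀ : Algebra A₁ (R ⊗[ℤ] A₂) :=
    ((algebraMap A₂ (R ⊗[ℤ] A₂)).comp (algebraMap A₁ A₂)).toAlgebra
  haveI tow1 : IsScalarTower A₁ (R ⊗[ℤ] A₂) A :=
    IsScalarTower.of_algebraMap_eq (fun a => by
      show algebraMap A₁ A a = φ ((1 : R) ⊗ₜ[ℤ] (algebraMap A₁ A₂ a))
      rw [Algebra.TensorProduct.lift_tmul, map_one, one_mul]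
      exact IsScalarTower.algebraMap_apply A₁ A₂ A a)
  have hD : 𝔠.map (algebraMap A₁ (R ⊗[ℤ] A₂)) = ⊤ := by
    have : algebraMap A₁ (R ⊗[ℤ] A₂) =
        (algebraMap A₂ (R ⊗[ℤ] A₂)).comp (algebraMap A₁ A₂) := rfl
    rw [this, ← Ideal.map_map, h₂, Ideal.map_top]
  have hff := faithfullyFlat_tensor_of_map_eq_top (D := R ⊗[ℤ] A₂) 𝔠 h𝔠 hD
  refine ⟨R ⊗[ℤ] A₂, (R ⊗[ℤ] A₂) ⊗[A₁] T₁, inferInstance, inferInstance, inferInstance, algA₀A,
    tow0, inferInstance, inferInstance, inferInstance, hff, ⟨?_⟩⟩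
  exact (Algebra.IsPushout.equiv A₁ A T₁ B).symm.trans
    (Algebra.TensorProduct.cancelBaseChange A₁ (R ⊗[ℤ] A₂) A A T₁).symm

theorem descend_ff_aux1 {R A B : Type u} [CommRing R] [CommRing A] [CommRing B] [Algebra R A]
    [Algebra A B] [Module.FaithfullyFlat A B] (A₁ T₁ : Type u) [CommRing A₁] [CommRing T₁]
    [Algebra A₁ A] [Algebra A₁ T₁] [Algebra T₁ B] [Algebra A₁ B] [IsScalarTower A₁ A B]
    [IsScalarTower A₁ T₁ B] [Algebra.IsPushout A₁ A T₁ B] [Module.Flat A₁ T₁]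
    (hfin₁ : Algebra.FiniteType ℤ A₁) (hft : Algebra.FiniteType A₁ T₁) :
    ∃ (A₀ B₀ : Type u) (_ : CommRing A₀) (_ : CommRing B₀) (_ : Algebra R A₀) (_ : Algebra A₀ A)
      (_ : IsScalarTower R A₀ A) (_ : Algebra A₀ B₀), Algebra.FinitePresentation R A₀ ∧
      Algebra.FinitePresentation A₀ B₀ ∧ Module.FaithfullyFlat A₀ B₀ ∧
      Nonempty (B ≃ₐ[A] A ⊗[A₀] B₀) := by
  haveI : IsNoetherianRing A₁ := Algebra.FiniteType.isNoetherianRing ℤ A₁
  haveI : Algebra.FinitePresentation A₁ T₁ := Algebra.FinitePresentation.of_finiteType.1 hft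
  obtain ⟨𝔠, h𝔠, hA⟩ := exists_ideal_map_eq_top (A₁ := A₁) (T₁ := T₁) (A := A) (B := B)
  obtain ⟨C, hC, h1, hmk⟩ := exists_fg_mem_map 𝔠 (1 : A) (by rw [hA]; trivial)
  have h₂ : 𝔠.map (algebraMap A₁ C) = ⊤ := by
    rw [Ideal.eq_top_iff_one]
    exact Ideal.Quotient.eq_zero_iff_mem.1 hmk
  have hfin₂ : Algebra.FiniteType ℤ C := by
    haveI : Algebra.FiniteType A₁ C := (Subalgebra.fg_iff_finiteType C).1 hC
    exact Algebra.FiniteType.trans (S := A₁) hfin₁ inferInstance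
  exact descend_ff_aux2 A₁ T₁ C hfin₂ 𝔠 h𝔠 h₂

/-- a faithfully flat finitely presented algebra descends to a finitely presented base. -/
theorem descend_faithfullyFlat {R A B : Type u} [CommRing R] [CommRing A] [CommRing B]
    [Algebra R A] [Algebra A B] [Algebra.FinitePresentation A B] [Module.FaithfullyFlat A B] :
    ∃ (A₀ B₀ : Type u) (_ : CommRing A₀) (_ : CommRing B₀) (_ : Algebra R A₀) (_ : Algebra A₀ A)
      (_ : IsScalarTower R A₀ A) (_ : Algebra A₀ B₀), Algebra.FinitePresentation R A₀ ∧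
      Algebra.FinitePresentation A₀ B₀ ∧ Module.FaithfullyFlat A₀ B₀ ∧
      Nonempty (B ≃ₐ[A] A ⊗[A₀] B₀) := by
  obtain ⟨A₁, _, _, T₁, _, _, _, _, _, _, hfin, hft, hflat, hpush⟩ :=
    exists_flat_int_model_algebra A B
  exact descend_ff_aux1 A₁ T₁ hfin hft

end Groth.Agent.Lib.Helper14.FlatStage
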