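/-
Helper14 library (FlatStage): finite presentation / finite type descend along faithfully flat
finitely presented ring maps `A → B` (for `R → A → B`).
-/
import Groth.Agent.Lib.Helper14.FlatStage.FaithfullyFlat

set_option autoImplicit false
universe u
open TensorProduct

namespace Groth.Agent.Lib.Helper14.FlatStage

/-- common part of the descent of finiteness along faithfully flat finitely presented maps. -/
theorem exists_ff_descent_data {R A B : Type u} [CommRing R] [CommRing A] [CommRing B]
    [Algebra R A] [Algebra A B] [Algebra R B] [IsScalarTower R A B]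
    [Module.FaithfullyFlat A B] [Algebra.FinitePresentation A B] :
    ∃ (A₀ B₀ : Type u) (_ : CommRing A₀) (_ : CommRing B₀) (_ : Algebra R A₀) (_ : Algebra A₀ A)
      (_ : IsScalarTower R A₀ A) (_ : Algebra A₀ B₀) (_ : Algebra R B₀)
      (_ : IsScalarTower R A₀ B₀),
      Algebra.FinitePresentation R A₀ ∧ Algebra.FinitePresentation A₀ B₀ ∧
      Module.FaithfullyFlat A₀ B₀ ∧ Nonempty (B ≃ₐ[R] B₀ ⊗[A₀] A) := by
  obtain ⟨A₀, B₀, _, _, _, _, _, _, h1, h2, h3, ⟨e⟩⟩ :=
    descend_faithfullyFlat (R := R) (A := A) (B := B)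
  letI : Algebra R B₀ := ((algebraMap A₀ B₀).comp (algebraMap R A₀)).toAlgebra
  haveI : IsScalarTower R A₀ B₀ := IsScalarTower.of_algebraMap_eq (fun _ => rfl)
  refine ⟨A₀, B₀, inferInstance, inferInstance, inferInstance, inferInstance, inferInstance,
    inferInstance, inferInstance, inferInstance, h1, h2, h3, ⟨?_⟩⟩
  refine AlgEquiv.ofRingEquiv (f := (e.toRingEquiv.trans
    (Algebra.TensorProduct.comm A₀ A B₀).toRingEquiv)) ?_
  intro r
  show (Algebra.TensorProduct.comm A₀ A B₀) (e (algebraMap R B r)) = _
  rw [IsScalarTower.algebraMap_apply R A B, e.commutes, Algebra.TensorProduct.algebraMap_apply,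
    Algebra.algebraMap_self, RingHom.id_apply, Algebra.TensorProduct.comm_tmul,
    Algebra.TensorProduct.algebraMap_apply, IsScalarTower.algebraMap_apply R A₀ A,
    IsScalarTower.algebraMap_apply R A₀ B₀, Algebra.algebraMap_eq_smul_one (algebraMap R A₀ r),
    Algebra.algebraMap_eq_smul_one (algebraMap R A₀ r), TensorProduct.smul_tmul]

theorem finitePresentation_of_ff {R A B : Type u} [CommRing R] [CommRing A] [CommRing B]
    [Algebra R A] [Algebra A B]
    [Algebra R B] [IsScalarTower R A B] [Algebra.FinitePresentation R B]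
    [Module.FaithfullyFlat A B] [Algebra.FinitePresentation A B] :
    Algebra.FinitePresentation R A := by
  obtain ⟨A₀, B₀, _, _, _, _, _, _, _, _, h1, h2, h3, ⟨e⟩⟩ :=
    exists_ff_descent_data (R := R) (A := A) (B := B)
  haveI := h1
  haveI := h2
  haveI := h3
  haveI : Algebra.FinitePresentation R B₀ := Algebra.FinitePresentation.trans R A₀ B₀
  haveI : Algebra.FinitePresentation R (B₀ ⊗[A₀] A) := Algebra.FinitePresentation.equiv e
  haveI : Algebra.FiniteType R B₀ := inferInstance
  haveI : Algebra.FinitePresentation B₀ (B₀ ⊗[A₀] A) :=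
    Algebra.FinitePresentation.of_restrict_scalars_finitePresentation R B₀ _
  haveI : Algebra.FinitePresentation A₀ A :=
    Algebra.FinitePresentation.of_finitePresentation_tensorProduct_of_faithfullyFlat B₀
  exact Algebra.FinitePresentation.trans R A₀ A

theorem finiteType_of_ff {R A B : Type u} [CommRing R] [CommRing A] [CommRing B]
    [Algebra R A] [Algebra A B]
    [Algebra R B] [IsScalarTower R A B] [Algebra.FiniteType R B]
    [Module.FaithfullyFlat A B] [Algebra.FinitePresentation A B] :
    Algebra.FiniteType R A := by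
  obtain ⟨A₀, B₀, _, _, _, _, _, _, _, _, h1, h2, h3, ⟨e⟩⟩ :=
    exists_ff_descent_data (R := R) (A := A) (B := B)
  haveI := h1
  haveI := h2
  haveI := h3
  haveI : Algebra.FiniteType R (B₀ ⊗[A₀] A) := Algebra.FiniteType.equiv inferInstance e
  haveI : Algebra.FiniteType B₀ (B₀ ⊗[A₀] A) :=
    Algebra.FiniteType.of_restrictScalars_finiteType R B₀ _
  haveI : Algebra.FiniteType A₀ A :=
    Algebra.FiniteType.of_finiteType_tensorProduct_of_faithfullyFlat B₀
  haveI : Algebra.FiniteType R A₀ := inferInstance
  exact Algebra.FiniteType.trans (S := A₀) inferInstance inferInstance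

end Groth.Agent.Lib.Helper14.FlatStage
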